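import Groth.Agent.EtAlgz21.Cover
import Groth.Agent.Lib.RLpsi8.SpecUMP
import Groth.Agent.Lib.FEt21.Affine
import Mathlib.Algebra.Category.Ring.Constructions

/-!
# The restriction of the algebraised cover to the closed subscheme
-/

set_option autoImplicit false
set_option backward.isDefEq.respectTransparency false
set_option linter.style.haveILetI false
set_option linter.unusedSectionVars false

universe u

open CategoryTheory CategoryTheory.Limits AlgebraicGeometry TopologicalSpace Opposite TensorProduct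

noncomputable section

namespace GrothLib.EtAlgz21

theorem isPushout_of_basis {R S A C : Type u} [CommRing R] [CommRing S] [CommRing A] [CommRing C]
    [Algebra R S] [Algebra R A] [Algebra S C] [Algebra A C] [Algebra R C] [IsScalarTower R S C]
    [IsScalarTower R A C] {ι : Type*} (bA : Module.Basis ι R A) (bC : Module.Basis ι S C)
    (h : ∀ k, algebraMap A C (bA k) = bC k) : Algebra.IsPushout R S A C := by
  classical
  refine ⟨IsBaseChange.of_equiv ((Algebra.TensorProduct.basis S bA).equiv bC (Equiv.refl ι)) fun x => ?_⟩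
  show _ = algebraMap A C x
  conv_lhs => rw [← bA.linearCombination_repr x]
  rw [Finsupp.linearCombination_apply, Finsupp.sum, TensorProduct.tmul_sum, map_sum]
  conv_rhs => rw [← bA.linearCombination_repr x, Finsupp.linearCombination_apply, Finsupp.sum, map_sum]
  refine Finset.sum_congr rfl fun k _ => ?_
  rw [TensorProduct.tmul_smul, ← algebraMap_smul S (bA.repr x k), map_smul,
    ← Algebra.TensorProduct.basis_apply, Module.Basis.equiv_apply, Equiv.refl_apply, Algebra.smul_def,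
    Algebra.smul_def, map_mul, h, ← IsScalarTower.algebraMap_apply R S C,
    ← IsScalarTower.algebraMap_apply R A C]

variable {Z : Scheme.{u}} {E : Z.Modules} {F : Forms E} {U : Z.Opens}
  (hU : ∀ z ∈ U, ∃ W : Z.Opens, W ≤ U ∧ z ∈ W ∧ GoodNhd F W)
  {𝓙 : Z.IdealSheafData} (D : FormalAlg 𝓙 E) (hE : FlatMod.IsFinLocFree E) (hF : D.Reduces F)
  [(E.restrict U.ι).IsQuasicoherent] (i : Yn 𝓙 0 ⟶ U.toScheme) (hi : i ≫ U.ι = yι 𝓙 0)

include hi in
theorem app_eq_red (V : U.toScheme.Opens) (r : Γ(U.toScheme, V)) :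
    (D.p 0 ≫ i).app V r = (D.R 0).presheaf.map (homOfLE (preimage_eq D i hi V).le).op
      ((D.p 0).app _ (FormalAlg.red 0 (U.ι ''ᵁ V) (show Γ(Z, U.ι ''ᵁ V) from r))) := by
  have h1 : V ≤ U.ι ⁻¹ᵁ (U.ι ''ᵁ V) := (U.ι.preimage_image_eq V).ge
  have h2 : U.ι.appLE (U.ι ''ᵁ V) V h1 (show Γ(Z, U.ι ''ᵁ V) from r) = r := by
    rw [Scheme.Opens.ι_appLE]
    exact (congrArg (fun g => Z.presheaf.map g (show Γ(Z, U.ι ''ᵁ V) from r)) (Subsingleton.elim _ (𝟙 _))).trans
      (congr($(Z.presheaf.map_id _) _))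
  have key : ∀ {f g : D.R 0 ⟶ Z} (_ : f = g) (T : Z.Opens) (P : (D.R 0).Opens)
      (h : P ≤ f ⁻¹ᵁ T) (h' : P ≤ g ⁻¹ᵁ T), f.appLE T P h = g.appLE T P h' := by
    intro f g e T P h h'; subst e; rfl
  conv_lhs => rw [← h2]
  rw [Scheme.Hom.app_eq_appLE, ← ConcreteCategory.comp_apply, Scheme.Hom.appLE_comp_appLE]
  have e1 := key (show (D.p 0 ≫ i) ≫ U.ι = D.p 0 ≫ yι 𝓙 0 by rw [Category.assoc, hi]) (U.ι ''ᵁ V)
    ((D.p 0 ≫ i) ⁻¹ᵁ V) (le_rfl.trans ((D.p 0 ≫ i).preimage_mono h1)) (preimage_eq D i hi V).le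
  rw [e1]
  show _ = ((D.p 0 ≫ yι 𝓙 0).app (U.ι ''ᵁ V) ≫ (D.R 0).presheaf.map (homOfLE (preimage_eq D i hi V).le).op) _
  rw [Scheme.Hom.appLE]

theorem str_mul_one (V : U.toScheme.Opens) (r : Γ(U.toScheme, V)) :
    compHom hU D hE hF i hi V (Sec.str (axioms_restrict hU) r) = (D.p 0 ≫ i).app V r := by
  rw [app_eq_red D i hi]
  show (D.R 0).presheaf.map _ (D.eps 0 (U.ι ''ᵁ V) (r • (F.restrict U).one (restrict_hp hU) V)) = _
  refine (congrArg (fun z : Γ(E, U.ι ''ᵁ V) => (D.R 0).presheaf.map (homOfLE (preimage_eq D i hi V).le).op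
    (D.eps 0 (U.ι ''ᵁ V) z)) (restrict_smul U r ((F.restrict U).one (restrict_hp hU) V))).trans ?_
  rw [D.eps_smul, (eps_mul_one hU D hE hF 0 V).2, mul_one]

/-- The comparison of the algebra with the functions of the cover. -/
def omega : (algU hU).presheaf ⟶ AffAlg.alg (D.p 0 ≫ i) where
  app V := CommRingCat.ofHom (compHom hU D hE hF i hi V.unop)
  naturality V W j := CommRingCat.hom_ext (RingHom.ext fun x => by
    show (D.R 0).presheaf.map _ (D.eps 0 _ (mres E (U.ι.image_mono j.unop.le) x)) =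
      (D.R 0).presheaf.map _ ((D.R 0).presheaf.map _ (D.eps 0 (U.ι ''ᵁ V.unop) x))
    rw [D.eps_res, LefEt7.resU, ← ConcreteCategory.comp_apply, ← ConcreteCategory.comp_apply,
      ← Functor.map_comp, ← Functor.map_comp]
    rfl)

include hU hE hF hi in
/-- The comparison morphism. -/
theorem exists_comparison : ∃ h : D.R 0 ⟶ (algU hU).spec, h ≫ (algU hU).π = D.p 0 ≫ i ∧
    ∀ (W : U.toScheme.Opens) (hW : IsAffineOpen W) (hC : IsAffineOpen ((D.p 0 ≫ i) ⁻¹ᵁ W)),
      hC.fromSpec ≫ h = Spec.map (CommRingCat.ofHom (compHom hU D hE hF i hi W)) ≫ (algU hU).ι W hW := by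
  let A := algU hU
  have hω : A.π.c ≫ A.gammaMap ≫ omega hU D hE hF i hi = (D.p 0 ≫ i).c := by
    rw [← Category.assoc, A.π_c_gammaMap]
    refine NatTrans.ext (funext fun V => CommRingCat.hom_ext (RingHom.ext fun r => ?_))
    exact str_mul_one hU D hE hF i hi V.unop r
  obtain ⟨h, hh, hhω⟩ := GrothLib.AffAlg8.exists_hom A.π (D.p 0 ≫ i) _ hω
  refine ⟨h, hh, fun W hW hC => ?_⟩
  have le0 : (D.p 0 ≫ i) ⁻¹ᵁ W ≤ h ⁻¹ᵁ (A.π ⁻¹ᵁ W) := by rw [← hh]; rfl
  have e₁ : ⊤ ≤ (hC.fromSpec ≫ h) ⁻¹ᵁ (A.π ⁻¹ᵁ W) :=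
    le_trans hC.fromSpec_preimage_self.ge (hC.fromSpec.preimage_mono le0)
  have e₂ : ⊤ ≤ (Spec.map (CommRingCat.ofHom (compHom hU D hE hF i hi W)) ≫ A.ι W hW) ⁻¹ᵁ (A.π ⁻¹ᵁ W) :=
    le_trans le_top (Scheme.Hom.preimage_mono _ (A.top_le_preimage W hW))
  refine RLpsi8.ext_of_appLE_affine _ _ _ (hW.preimage A.π) e₁ e₂ ?_
  have hl : h.appLE (A.π ⁻¹ᵁ W) ((D.p 0 ≫ i) ⁻¹ᵁ W) le0 =
      A.gammaAff W hW ≫ CommRingCat.ofHom (compHom hU D hE hF i hi W) := by
    rw [← GrothLib.AffAlg8.algHom_app A.π (D.p 0 ≫ i) h hh W, hhω, NatTrans.comp_app, A.gammaMap_app W hW]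
    rfl
  have hC1 : hC.fromSpec.appLE ((D.p 0 ≫ i) ⁻¹ᵁ W) ⊤ hC.fromSpec_preimage_self.ge =
      (Scheme.ΓSpecIso _).inv := by
    rw [Scheme.Hom.appLE, hC.fromSpec_app_self, Category.assoc, ← Functor.map_comp]
    exact (congrArg (_ ≫ ·) ((Spec _).presheaf.map_id (op ⊤))).trans (Category.comp_id _)
  rw [← Scheme.Hom.appLE_comp_appLE hC.fromSpec h (A.π ⁻¹ᵁ W) ((D.p 0 ≫ i) ⁻¹ᵁ W) ⊤ le0
      hC.fromSpec_preimage_self.ge,
    ← Scheme.Hom.appLE_comp_appLE _ (A.ι W hW) (A.π ⁻¹ᵁ W) ⊤ ⊤ (A.top_le_preimage W hW) le_top, hl, hC1,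
    RelSpec.QCAlg.gammaAff, Category.assoc, Category.assoc]
  rw [show (Spec.map (CommRingCat.ofHom (compHom hU D hE hF i hi W))).appLE ⊤ ⊤ le_top =
    (Spec.map (CommRingCat.ofHom (compHom hU D hE hF i hi W))).appTop from (Scheme.Hom.app_eq_appLE _).symm]
  refine congrArg (_ ≫ ·) ?_
  erw [Scheme.ΓSpecIso_inv_naturality, Iso.hom_inv_id_assoc]

theorem bijective_transport {Y R : Scheme.{u}} (p : R ⟶ Y) {T T' : Y.Opens} (e : T = T') {m : ℕ}
    (g : Fin m → Γ(R, p ⁻¹ᵁ T))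
    (h : Function.Bijective fun c : Fin m → Γ(Y, T) => ∑ k, p.app T (c k) * g k) :
    Function.Bijective fun c : Fin m → Γ(Y, T') => ∑ k, p.app T' (c k) *
      R.presheaf.map (homOfLE (p.preimage_mono e.ge)).op (g k) := by
  subst e
  have h1 : ∀ k, R.presheaf.map (homOfLE (p.preimage_mono (le_refl T))).op (g k) = g k := fun k =>
    (congrArg (fun j => R.presheaf.map j (g k)) (Subsingleton.elim _ (𝟙 _))).trans (congr($(R.presheaf.map_id _) _))
  simpa only [h1] using h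

include hU hE hF hi in
theorem exists_piece (y : Yn 𝓙 0) :
    ∃ (W : U.toScheme.Opens) (hW : IsAffineOpen W) (hV : IsAffineOpen (i ⁻¹ᵁ W)), i y ∈ W ∧
      IsPushout ((algU hU).str.app (op W)) (i.app W) (CommRingCat.ofHom (compHom hU D hE hF i hi W))
        ((D.p 0).app (i ⁻¹ᵁ W)) := by
  classical
  obtain ⟨W₀, hWU, hyW, hg⟩ := hU (i y).1 (i y).2
  obtain ⟨W, hW'⟩ : ∃ W : U.toScheme.Opens, W = U.ι ⁻¹ᵁ W₀ := ⟨_, rfl⟩
  obtain rfl : W₀ = U.ι ''ᵁ W := by rw [hW', image_preimage_of_le hWU]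
  obtain ⟨hp, haff, m, e, he, -⟩ := hg
  have hWaff : IsAffineOpen W := U.ι.isAffineOpen_iff_of_isOpenImmersion.1 haff
  have heq : yι 𝓙 0 ⁻¹ᵁ (U.ι ''ᵁ W) = i ⁻¹ᵁ W := by
    rw [← hi, Scheme.Hom.comp_preimage, Scheme.Hom.preimage_image_eq]
  have hV : IsAffineOpen (i ⁻¹ᵁ W) := heq ▸ haff.preimage (yι 𝓙 0)
  refine ⟨W, hWaff, hV, by rw [hW']; exact hyW, ?_⟩
  let R := Γ(U.toScheme, W)
  let S := Γ(Yn 𝓙 0, i ⁻¹ᵁ W)
  let A := Sec (axioms_restrict hU) W
  let C := Γ(D.R 0, (D.p 0 ≫ i) ⁻¹ᵁ W)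
  letI : Algebra R S := (i.app W).hom.toAlgebra
  letI : Algebra R A := (Sec.str (axioms_restrict hU)).toAlgebra
  letI : Algebra S C := ((D.p 0).app (i ⁻¹ᵁ W)).hom.toAlgebra
  letI : Algebra A C := (compHom hU D hE hF i hi W).toAlgebra
  letI : Algebra R C := ((D.p 0 ≫ i).app W).hom.toAlgebra
  haveI : IsScalarTower R S C := .of_algebraMap_eq fun r => rfl
  haveI : IsScalarTower R A C := .of_algebraMap_eq fun r => (str_mul_one hU D hE hF i hi W r).symm
  let β := (isFrame_restrict he).basis W le_rfl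
  let bA : Module.Basis (Fin m) R A :=
    β.map ({ toFun := fun x => x, invFun := fun x => x, left_inv := fun _ => rfl, right_inv := fun _ => rfl,
             map_add' := fun _ _ => rfl,
             map_smul' := fun r x => ((Algebra.smul_def r (show A from x)).trans
               (Sec.str_mul (axioms_restrict hU) r x)).symm } : Γ(E.restrict U.ι, W) ≃ₗ[R] A)
  have hbA : ∀ k, bA k = e k := fun k => ((isFrame_restrict he).basis_apply W le_rfl k).trans (mres_self _ _ _)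
  let L : (Fin m → S) →ₗ[S] C :=
    { toFun := fun c => ∑ k, algebraMap S C (c k) * algebraMap A C (bA k)
      map_add' := fun c d => by simp [add_mul, Finset.sum_add_distrib]
      map_smul' := fun r c => by
        rw [Finset.smul_sum]
        refine Finset.sum_congr rfl fun k _ => ?_
        rw [RingHom.id_apply, Pi.smul_apply, smul_eq_mul, map_mul, Algebra.smul_def, mul_assoc] }
  have hL : Function.Bijective L := by
    have h := bijective_transport (D.p 0) heq (fun k => D.eps 0 (U.ι ''ᵁ W) (e k)) (D.basis 0 _ haff m e he)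
    refine Eq.mpr (congrArg (Function.Bijective (α := Fin m → S) (β := C)) (funext fun c => ?_)) h
    show ∑ k, algebraMap S C (c k) * algebraMap A C (bA k) = _
    refine Finset.sum_congr rfl fun k _ => ?_
    rw [hbA k]
    rfl
  let bC : Module.Basis (Fin m) S C := Module.Basis.ofEquivFun (LinearEquiv.ofBijective L hL).symm
  have hbC : ∀ k, algebraMap A C (bA k) = bC k := fun k => by
    rw [Module.Basis.coe_ofEquivFun]
    simp [L, Pi.single_apply, apply_ite]
  haveI := isPushout_of_basis bA bC hbC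
  haveI : Algebra.IsPushout R A S C := this.symm
  exact CommRingCat.isPushout_of_isPushout R A S C

include hU hE hF hi in
/-- The algebraised cover restricts to the given cover of the closed subscheme. -/
theorem exists_isPullback : ∃ h : D.R 0 ⟶ (algU hU).spec,
    IsPullback h (D.p 0) (algU hU).π i := by
  obtain ⟨h, hh, hchart⟩ := exists_comparison hU D hE hF i hi
  refine ⟨h, ?_⟩
  let A := algU hU
  choose W hW hV hy hpo using exists_piece hU D hE hF i hi
  have hsq : ∀ y, IsPullback (A.ι (W y) (hW y)) (Spec.map (A.str.app (op (W y)))) A.π (hW y).fromSpec := fun y =>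
    IsPullback.flip (IsOpenImmersion.isPullback _ _ _ _ (A.ι_π (W y) (hW y))
      (by rw [(hW y).opensRange_fromSpec]; exact A.π_preimage (W y) (hW y)))
  have hC : ∀ y, IsAffineOpen ((D.p 0 ≫ i) ⁻¹ᵁ W y) := fun y => (hV y).preimage (D.p 0)
  have hQ : ∀ y, IsPullback ((hC y).fromSpec ≫ h) (Spec.map ((D.p 0).app (i ⁻¹ᵁ W y))) A.π
      ((hV y).fromSpec ≫ i) := fun y => by
    have h1 := isPullback_SpecMap_of_isPushout _ _ _ _ (hpo y)
    have h2 := h1.paste_horiz (hsq y)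
    rw [← hchart (W y) (hW y) (hC y)] at h2
    have h3 : Spec.map (i.app (W y)) ≫ (hW y).fromSpec = (hV y).fromSpec ≫ i := by
      rw [Scheme.Hom.app_eq_appLE]
      exact IsAffineOpen.SpecMap_appLE_fromSpec i (hW y) (hV y) le_rfl
    rwa [h3] at h2
  let P := pullback A.π i
  let m : D.R 0 ⟶ P := pullback.lift h (D.p 0) hh
  have hm : m ≫ pullback.snd A.π i = D.p 0 := pullback.lift_snd _ _ _
  let K : ∀ y, Spec Γ(D.R 0, (D.p 0 ≫ i) ⁻¹ᵁ W y) ⟶ P := fun y => (hC y).fromSpec ≫ m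
  have hK : ∀ y, IsPullback (K y) (Spec.map ((D.p 0).app (i ⁻¹ᵁ W y))) (pullback.snd A.π i) (hV y).fromSpec := fun y =>
    IsPullback.of_right (h₁₂ := pullback.fst A.π i) (h₂₂ := i) (v₁₃ := A.π)
      (by rw [Category.assoc, pullback.lift_fst]; exact hQ y)
      (by rw [Category.assoc, hm]; exact (GrothLib.FEt21.isPullback_app (D.p 0) (hV y)).w)
      (IsPullback.of_hasPullback _ _)
  have hK1 : ∀ y, IsOpenImmersion (K y) := fun y => MorphismProperty.of_isPullback (hK y).flip inferInstance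
  have hKm : ∀ y, IsPullback (hC y).fromSpec (𝟙 _) m (K y) := fun y =>
    IsPullback.of_bot (h₃₁ := (hV y).fromSpec) (v₂₁ := Spec.map ((D.p 0).app (i ⁻¹ᵁ W y)))
      (v₂₂ := pullback.snd A.π i)
      (by rw [Category.id_comp, hm]; exact GrothLib.FEt21.isPullback_app (D.p 0) (hV y))
      (Category.id_comp _).symm (hK y)
  let 𝒰 : P.OpenCover := Scheme.Cover.mkOfCovers (Yn 𝓙 0) (fun y => Spec Γ(D.R 0, (D.p 0 ≫ i) ⁻¹ᵁ W y)) K
    (fun x => by
      refine ⟨pullback.snd A.π i x, ?_⟩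
      have hx : pullback.snd A.π i x ∈ Set.range (hV (pullback.snd A.π i x)).fromSpec := by
        rw [(hV _).range_fromSpec]; exact hy _
      obtain ⟨w, hw⟩ := hx
      obtain ⟨a, ha, -⟩ := Scheme.exists_preimage_of_isPullback (hK (pullback.snd A.π i x)) _ _ hw.symm
      exact ⟨a, ha⟩) hK1
  haveI : IsIso m := by
    refine IsZariskiLocalAtTarget.of_openCover (P := MorphismProperty.isomorphisms Scheme.{u}) 𝒰 fun y => ?_
    show IsIso (pullback.snd m (K y))
    have e := (hKm y).isoPullback_hom_snd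
    rw [show pullback.snd m (K y) = (hKm y).isoPullback.inv ≫ 𝟙 _ by rw [Iso.eq_inv_comp]; exact e]
    infer_instance
  exact (IsPullback.of_hasPullback A.π i).of_iso (asIso m).symm (Iso.refl _) (Iso.refl _) (Iso.refl _)
    (by simp [m, A]) (by simp [m, A]) (by simp [A]) (by simp)

end GrothLib.EtAlgz21
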