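import Groth.Agent.EtAlgz21.Data

/-!
# The formal algebra inside the open
-/

set_option autoImplicit false
set_option backward.isDefEq.respectTransparency false
set_option linter.style.haveILetI false

universe u

open CategoryTheory CategoryTheory.Limits AlgebraicGeometry TopologicalSpace Opposite

noncomputable section

namespace GrothLib.EtAlgz21

variable {X : Scheme.{u}} {𝓘 : X.IdealSheafData} {R : FEt.Cat 𝓘.subscheme} {U : X.Opens}
  {E : (U : Scheme.{u}).Modules}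
  (hUI : (𝓘.support : Set X) ⊆ (U : Set X))
  (θ : FSch.completionMod 𝓘 ((Scheme.Modules.pushforward U.ι).obj E) ≅ sys 𝓘 R)

include hUI in
theorem exists_pu (n : ℕ) : ∃ q : (lev 𝓘 R n).left ⟶ Yn (𝓘.comap U.ι) n, q ≫ kap U n = pv 𝓘 R n := by
  haveI := isIso_kap U hUI n
  exact ⟨pv 𝓘 R n ≫ inv (kap U n), by rw [Category.assoc, IsIso.inv_hom_id, Category.comp_id]⟩

/-- The structure maps over the thickenings in the open. -/
def pu (n : ℕ) : (lev 𝓘 R n).left ⟶ Yn (𝓘.comap U.ι) n := (exists_pu (R := R) hUI n).choose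

theorem pu_kap (n : ℕ) : pu (R := R) hUI n ≫ kap U n = pv 𝓘 R n := (exists_pu (R := R) hUI n).choose_spec

theorem pu_yι (n : ℕ) :
    pu (R := R) hUI n ≫ yι (𝓘.comap U.ι) n ≫ U.ι = pv 𝓘 R n ≫ yι 𝓘 n := by
  rw [← kap_yι, ← Category.assoc, pu_kap]

theorem preimage_pu (n : ℕ) (V : U.toScheme.Opens) :
    pu (R := R) hUI n ⁻¹ᵁ (yι (𝓘.comap U.ι) n ⁻¹ᵁ V) = pv 𝓘 R n ⁻¹ᵁ (yι 𝓘 n ⁻¹ᵁ (U.ι ''ᵁ V)) := by
  rw [← Scheme.Hom.comp_preimage, ← Scheme.Hom.comp_preimage, ← pu_yι hUI, Scheme.Hom.comp_preimage,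
    Scheme.Hom.comp_preimage, Scheme.Hom.comp_preimage, U.ι.preimage_image_eq]

theorem app_image_eq (V : U.toScheme.Opens) (r : Γ(U.toScheme, V)) :
    U.ι.app (U.ι ''ᵁ V) (show Γ(X, U.ι ''ᵁ V) from r) =
      U.toScheme.presheaf.map (homOfLE (U.ι.preimage_image_eq V).le).op r := by
  rw [Scheme.Hom.app_eq_appLE, Scheme.Opens.ι_appLE]
  rfl

theorem le_image_pre (V : U.toScheme.Opens) : U.ι ⁻¹ᵁ (U.ι ''ᵁ V) ≤ V := (U.ι.preimage_image_eq V).le

/-- A section over an open of the open as a section of the direct image. -/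
def liftSec (V : U.toScheme.Opens) : Γ(E, V) →+ Γ(pE E, U.ι ''ᵁ V) :=
  (E.presheaf.map (homOfLE (le_image_pre V)).op).hom

theorem liftSec_smul (V : U.toScheme.Opens) (r : Γ(U.toScheme, V)) (x : Γ(E, V)) :
    liftSec V (r • x) = (show Γ(X, U.ι ''ᵁ V) from r) • (liftSec V x : Γ(pE E, U.ι ''ᵁ V)) := by
  refine Eq.trans ?_ (smul_pE (U.ι ''ᵁ V) (show Γ(X, U.ι ''ᵁ V) from r) (liftSec V x)).symm
  exact (Scheme.Modules.map_smul E (homOfLE (le_image_pre V)) r x).trans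
    (congrArg (fun a : Γ(U.toScheme, U.ι ⁻¹ᵁ (U.ι ''ᵁ V)) =>
      a • (show Γ(E, U.ι ⁻¹ᵁ (U.ι ''ᵁ V)) from liftSec V x)) (app_image_eq V r).symm)

theorem liftSec_res {V W : U.toScheme.Opens} (h : V ≤ W) (x : Γ(E, W)) :
    liftSec V (mres E h x) = (pE E).presheaf.map (homOfLE (U.ι.image_mono h)).op (liftSec W x) := by
  show E.presheaf.map _ (E.presheaf.map _ x) = E.presheaf.map _ (E.presheaf.map _ x)
  rw [← ConcreteCategory.comp_apply, ← ConcreteCategory.comp_apply, ← Functor.map_comp, ← Functor.map_comp]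
  rfl

/-- Sections of the bundle as functions. -/
def epsU (n : ℕ) (V : U.toScheme.Opens) :
    Γ(E, V) →+ Γ((lev 𝓘 R n).left, pu (R := R) hUI n ⁻¹ᵁ (yι (𝓘.comap U.ι) n ⁻¹ᵁ V)) :=
  ((lev 𝓘 R n).left.presheaf.map (homOfLE (preimage_pu (R := R) hUI n V).le).op).hom.toAddMonoidHom.comp
    ((epsX θ n (U.ι ''ᵁ V)).comp (liftSec V))

theorem epsU_apply (n : ℕ) (V : U.toScheme.Opens) (x : Γ(E, V)) :
    epsU hUI θ n V x = (lev 𝓘 R n).left.presheaf.map (homOfLE (preimage_pu (R := R) hUI n V).le).op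
      (epsX θ n (U.ι ''ᵁ V) (liftSec V x)) := rfl

theorem pu_app_red (n : ℕ) (V : U.toScheme.Opens) (r : Γ(U.toScheme, V)) :
    (lev 𝓘 R n).left.presheaf.map (homOfLE (preimage_pu (R := R) hUI n V).le).op
        ((pv 𝓘 R n).app _ ((yι 𝓘 n).app (U.ι ''ᵁ V) (show Γ(X, U.ι ''ᵁ V) from r))) =
      (pu (R := R) hUI n).app _ ((yι (𝓘.comap U.ι) n).app V r) := by
  have key : ∀ {f g : (lev 𝓘 R n).left ⟶ X} (_ : f = g) (T : X.Opens) (P : (lev 𝓘 R n).left.Opens)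
      (h : P ≤ f ⁻¹ᵁ T) (h' : P ≤ g ⁻¹ᵁ T), f.appLE T P h = g.appLE T P h' := by
    intro f g e T P h h'; subst e; rfl
  have h1 : V ≤ U.ι ⁻¹ᵁ (U.ι ''ᵁ V) := (U.ι.preimage_image_eq V).ge
  have h2 : U.ι.appLE (U.ι ''ᵁ V) V h1 (show Γ(X, U.ι ''ᵁ V) from r) = r := by
    rw [Scheme.Opens.ι_appLE]
    exact (congrArg (fun g => X.presheaf.map g (show Γ(X, U.ι ''ᵁ V) from r))
      (Subsingleton.elim _ (𝟙 _))).trans (congr($(X.presheaf.map_id _) _))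
  let P := pu (R := R) hUI n ⁻¹ᵁ (yι (𝓘.comap U.ι) n ⁻¹ᵁ V)
  have hl : ((pv 𝓘 R n ≫ yι 𝓘 n).appLE (U.ι ''ᵁ V) P
      (preimage_pu (R := R) hUI n V).le) (show Γ(X, U.ι ''ᵁ V) from r) =
      (lev 𝓘 R n).left.presheaf.map (homOfLE (preimage_pu (R := R) hUI n V).le).op
        ((pv 𝓘 R n).app _ ((yι 𝓘 n).app (U.ι ''ᵁ V) (show Γ(X, U.ι ''ᵁ V) from r))) := rfl
  have hr : ((pu (R := R) hUI n ≫ yι (𝓘.comap U.ι) n).appLE V P le_rfl) r =
      (pu (R := R) hUI n).app _ ((yι (𝓘.comap U.ι) n).app V r) := by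
    show (lev 𝓘 R n).left.presheaf.map (𝟙 _) _ = _
    rw [CategoryTheory.Functor.map_id]
    rfl
  rw [← hl, ← hr]
  conv_rhs => rw [← h2, ← ConcreteCategory.comp_apply, Scheme.Hom.appLE_comp_appLE]
  exact congr($(key (show pv 𝓘 R n ≫ yι 𝓘 n = (pu (R := R) hUI n ≫ yι (𝓘.comap U.ι) n) ≫ U.ι by
    rw [Category.assoc, pu_yι]) _ _ _ _) _)

theorem epsU_smul (n : ℕ) (V : U.toScheme.Opens) (r : Γ(U.toScheme, V)) (x : Γ(E, V)) :
    epsU hUI θ n V (r • x) = (pu (R := R) hUI n).app _ ((yι (𝓘.comap U.ι) n).app V r) * epsU hUI θ n V x := by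
  rw [epsU_apply, epsU_apply, ← pu_app_red hUI n V r, liftSec_smul, epsX_smul, map_mul]

theorem tl_pu (n : ℕ) :
    tl 𝓘 R n ≫ pu (R := R) hUI (n + 1) = pu (R := R) hUI n ≫ inc (𝓘.comap U.ι) n := by
  haveI := isIso_kap U hUI (n + 1)
  rw [← cancel_mono (kap U (n + 1)), Category.assoc, pu_kap, Category.assoc, inc_kap, ← Category.assoc,
    pu_kap, (sq 𝓘 R n).w]

instance (n : ℕ) : IsFinite (pu (R := R) hUI n) := by
  haveI := isIso_kap U hUI n
  rw [show pu (R := R) hUI n = pv 𝓘 R n ≫ inv (kap U n) by rw [IsIso.eq_comp_inv, pu_kap]]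
  infer_instance

instance (n : ℕ) : Etale (pu (R := R) hUI n) := by
  haveI := isIso_kap U hUI n
  rw [show pu (R := R) hUI n = pv 𝓘 R n ≫ inv (kap U n) by rw [IsIso.eq_comp_inv, pu_kap]]
  infer_instance

set_option maxHeartbeats 2000000 in
include θ in
theorem basisU [IsLocallyNoetherian X] (hE : FlatMod.IsFinLocFree E) (n : ℕ) (W : U.toScheme.Opens)
    (hW : IsAffineOpen W) (m : ℕ) (e : Fin m → Γ(E, W)) (he : FinCov.IsFrame E W e) :
    Function.Bijective fun c : Fin m → Γ(Yn (𝓘.comap U.ι) n, yι (𝓘.comap U.ι) n ⁻¹ᵁ W) =>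
      ∑ i, (pu (R := R) hUI n).app _ (c i) * epsU hUI θ n W (e i) := by
  classical
  haveI := isIso_kap U hUI n
  have he' : FinCov.IsFrame E (U.ι ⁻¹ᵁ (U.ι ''ᵁ W)) fun i => (liftSec W (e i) : Γ(E, U.ι ⁻¹ᵁ (U.ι ''ᵁ W))) := by
    intro V hV
    have := he V (hV.trans (le_image_pre W))
    convert this using 4 with c i
    show E.presheaf.map _ (E.presheaf.map _ (e i)) = _
    rw [← ConcreteCategory.comp_apply, ← Functor.map_comp]
    rfl
  have h := basisX θ hE n (hW.image_of_isOpenImmersion U.ι) (U.ι.image_le_opensRange W |>.trans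
    (by rw [Scheme.Opens.opensRange_ι])) he'
  have hP : yι (𝓘.comap U.ι) n ⁻¹ᵁ W = kap U n ⁻¹ᵁ (yι 𝓘 n ⁻¹ᵁ (U.ι ''ᵁ W)) := by
    rw [← Scheme.Hom.comp_preimage, kap_yι, Scheme.Hom.comp_preimage, U.ι.preimage_image_eq]
  let φ := (kap U n).appLE (yι 𝓘 n ⁻¹ᵁ (U.ι ''ᵁ W)) (yι (𝓘.comap U.ι) n ⁻¹ᵁ W) hP.le
  have hφ : Function.Bijective φ := by
    have : φ = (kap U n).app _ ≫ (Yn (𝓘.comap U.ι) n).presheaf.map (eqToHom hP).op := rfl
    haveI : IsIso φ := by rw [this]; infer_instance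
    exact ConcreteCategory.bijective_of_isIso φ
  let ρ := (lev 𝓘 R n).left.presheaf.map (homOfLE (preimage_pu (R := R) hUI n W).le).op
  have hρ : Function.Bijective ρ := by
    have : ρ = (lev 𝓘 R n).left.presheaf.map (eqToHom (preimage_pu (R := R) hUI n W)).op := rfl
    haveI : IsIso ρ := by rw [this]; infer_instance
    exact ConcreteCategory.bijective_of_isIso ρ
  refine (Function.Bijective.of_comp_iff _ (Equiv.piCongrRight fun _ : Fin m => Equiv.ofBijective φ hφ).bijective).1 ?_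
  suffices hh : ((fun c : Fin m → Γ(Yn (𝓘.comap U.ι) n, yι (𝓘.comap U.ι) n ⁻¹ᵁ W) =>
      ∑ i, (pu (R := R) hUI n).app _ (c i) * epsU hUI θ n W (e i)) ∘
        ⇑(Equiv.piCongrRight fun _ : Fin m => Equiv.ofBijective φ hφ)) =
      ρ ∘ fun c : Fin m → Γ(Yn 𝓘 n, yι 𝓘 n ⁻¹ᵁ (U.ι ''ᵁ W)) =>
        ∑ i, (pv 𝓘 R n).app _ (c i) * epsX θ n (U.ι ''ᵁ W) (liftSec W (e i)) by
    rw [hh]; exact hρ.comp h
  funext c
  show (∑ i, (pu (R := R) hUI n).app _ (φ (c i)) * epsU hUI θ n W (e i)) =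
    ρ (∑ i, (pv 𝓘 R n).app _ (c i) * epsX θ n (U.ι ''ᵁ W) (liftSec W (e i)))
  rw [map_sum]
  refine Finset.sum_congr rfl fun i _ => ?_
  rw [map_mul, epsU_apply]
  congr 1
  have key : ∀ {f g : (lev 𝓘 R n).left ⟶ Yn 𝓘 n} (_ : f = g) (T : (Yn 𝓘 n).Opens)
      (P : (lev 𝓘 R n).left.Opens) (h : P ≤ f ⁻¹ᵁ T) (h' : P ≤ g ⁻¹ᵁ T), f.appLE T P h = g.appLE T P h' := by
    intro f g e T P h h'; subst e; rfl
  let P' := pu (R := R) hUI n ⁻¹ᵁ (yι (𝓘.comap U.ι) n ⁻¹ᵁ W)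
  show ((kap U n).appLE _ _ hP.le ≫ (pu (R := R) hUI n).app _) (c i) =
    ((pv 𝓘 R n).appLE (yι 𝓘 n ⁻¹ᵁ (U.ι ''ᵁ W)) P' (preimage_pu (R := R) hUI n W).le) (c i)
  rw [Scheme.Hom.app_eq_appLE, Scheme.Hom.appLE_comp_appLE]
  exact congr($(key (pu_kap hUI n) _ _ _ _) _)

/-- The formal algebra in the open. -/
def formalAlg [IsLocallyNoetherian X] (hE : FlatMod.IsFinLocFree E) : FormalAlg (𝓘.comap U.ι) E where
  R n := (lev 𝓘 R n).left
  p n := pu (R := R) hUI n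
  finite _ := inferInstance
  etale _ := inferInstance
  t n := tl 𝓘 R n
  w n := tl_pu hUI n
  eps n V := epsU hUI θ n V
  eps_smul n V r x := epsU_smul hUI θ n V r x
  eps_res n V W h x := by
    rw [epsU_apply, liftSec_res, epsX_res]
    show _ = (lev 𝓘 R n).left.presheaf.map _ (epsU hUI θ n W x)
    rw [epsU_apply, ← ConcreteCategory.comp_apply, ← ConcreteCategory.comp_apply, ← Functor.map_comp,
      ← Functor.map_comp]
    rfl
  eps_compat n V x e := by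
    rw [epsU_apply, epsU_apply, ← epsX_compat θ n (U.ι ''ᵁ V) (liftSec V x), ← ConcreteCategory.comp_apply,
      ← ConcreteCategory.comp_apply, Scheme.Hom.map_appLE, Scheme.Hom.appLE_map]
  basis n W hW m e he := basisU hUI θ hE n W hW m e he

end GrothLib.EtAlgz21
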