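import Groth.Agent.EtAlgz21.Families
import Groth.Agent.Lib.TraceEtale.Basic
import Mathlib.RingTheory.Filtration

/-!
# The multiplication near the closed subscheme
-/

set_option autoImplicit false
set_option backward.isDefEq.respectTransparency false
set_option linter.style.haveILetI false

universe u

open CategoryTheory CategoryTheory.Limits AlgebraicGeometry TopologicalSpace Opposite

noncomputable section

namespace GrothLib.EtAlgz21

variable {Z : Scheme.{u}}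

theorem isFrame_res {E : Z.Modules} {U W : Z.Opens} {m : ℕ} {e : Fin m → Γ(E, U)}
    (he : FinCov.IsFrame E U e) (h : W ≤ U) : FinCov.IsFrame E W (fun i => mres E h (e i)) := fun T hT => by
  have := he T (hT.trans h)
  simp only [mres_mres] at this ⊢
  exact this

theorem le_basicOpen_of_isUnit_red {𝓙 : Z.IdealSheafData} {W : Z.Opens} {r : Γ(Z, W)}
    (h : IsUnit (FormalAlg.red (𝓙 := 𝓙) 0 W r)) {z : Z} (hz : z ∈ W)
    (hzY : z ∈ (𝓙.support : Set Z)) : z ∈ Z.basicOpen r := by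
  have hz' : z ∈ ((𝓙 ^ (0 + 1)).support : Set Z) := by
    rwa [Scheme.IdealSheafData.support_pow_succ]
  rw [← (𝓙 ^ (0 + 1)).range_subschemeι] at hz'
  obtain ⟨y, rfl⟩ := hz'
  show y ∈ yι 𝓙 0 ⁻¹ᵁ Z.basicOpen r
  rw [Scheme.preimage_basicOpen, Scheme.basicOpen_of_isUnit _ h]
  exact hz

namespace FormalAlg

variable {𝓙 : Z.IdealSheafData} {E : Z.Modules} (D : FormalAlg 𝓙 E)

/-- The forms reduce to the traces of products. -/
def Reduces (F : Forms E) : Prop := ∀ (n : ℕ) (V : Z.Opens),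
  (∀ x y, red n V (F.b V x y) = D.tau n V (D.eps n V x * D.eps n V y)) ∧
  (∀ x y z, red n V (F.t V x y z) = D.tau n V (D.eps n V x * D.eps n V y * D.eps n V z)) ∧
  (∀ x, red n V (F.u V x) = D.tau n V (D.eps n V x))

variable {D} {F : Forms E} (hF : D.Reduces F)
variable {W : Z.Opens} (hW : IsAffineOpen W) {m : ℕ} {e : Fin m → Γ(E, W)} (he : FinCov.IsFrame E W e)

include hW he in
/-- A function is determined by its traces against the images of the sections. -/
theorem eq_of_tau_eps (n : ℕ) {c c' : D.C n W}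
    (h : ∀ z : Γ(E, W), D.tau n W (c * D.eps n W z) = D.tau n W (c' * D.eps n W z)) : c = c' := by
  have hg := D.good hW he n
  let φ : D.C n W →+ Γ(Yn 𝓙 n, yι 𝓙 n ⁻¹ᵁ W) :=
    AddMonoidHom.mk' (fun x => D.tau n W (c * x)) fun x y => by rw [mul_add]; exact LefEt7.tau_add _ _ _ _
  refine (LefEt7.existsUnique_tau_eq (D.p n) hg φ fun r x => by
    show D.tau n W (c * _) = r * D.tau n W (c * x)
    rw [mul_left_comm]; exact LefEt7.tau_mul _ _ _ _).unique (fun x => rfl) fun x => ?_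
  obtain ⟨a, rfl⟩ := (D.basis n W hW m e he).2 x
  show D.tau n W (c * ∑ i, _) = D.tau n W (c' * ∑ i, _)
  rw [Finset.mul_sum, Finset.mul_sum]
  refine (map_sum (((D.tauHom n).app W).hom : D.C n W →+ _) _ _).trans
    (Eq.trans ?_ (map_sum (((D.tauHom n).app W).hom : D.C n W →+ _) _ _).symm)
  refine Finset.sum_congr rfl fun i _ => ?_
  show D.tau n W _ = D.tau n W _
  rw [mul_left_comm, mul_left_comm c']
  refine (LefEt7.tau_mul _ _ _ _).trans (Eq.trans ?_ (LefEt7.tau_mul _ _ _ _).symm)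
  exact congrArg (a i * ·) (h (e i))

include hF hW he in
theorem eps_prod (n : ℕ) {a b x : Γ(E, W)} (hx : ∀ c, F.b W x c = F.t W a b c) :
    D.eps n W x = D.eps n W a * D.eps n W b :=
  eq_of_tau_eps hW he n fun z => by
    rw [← (hF n W).1, ← (hF n W).2.1, hx]

include hF hW he in
theorem eps_unit (n : ℕ) {x : Γ(E, W)} (hx : ∀ c, F.b W x c = F.u W c) : D.eps n W x = 1 :=
  eq_of_tau_eps hW he n fun z => by
    rw [← (hF n W).1, hx, (hF n W).2.2, one_mul]

include hF he hW in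
theorem exists_nhd_det {y : Z} (hy : y ∈ (𝓙.support : Set Z)) (hyW : y ∈ W) :
    ∃ (W' : Z.Opens) (h : W' ≤ W), y ∈ W' ∧ IsAffineOpen W' ∧ F.Perfect W' := by
  classical
  let G : Matrix (Fin m) (Fin m) Γ(Z, W) := Matrix.of fun i j => F.b W (e i) (e j)
  let ρ : Γ(Z, W) →+* Γ(Yn 𝓙 0, yι 𝓙 0 ⁻¹ᵁ W) := ((yι 𝓙 0).app W).hom
  have hu : IsUnit (ρ G.det) := by
    letI := ((D.p 0).app (yι 𝓙 0 ⁻¹ᵁ W)).hom.toAlgebra
    haveI : Algebra.Etale Γ(Yn 𝓙 0, yι 𝓙 0 ⁻¹ᵁ W) (D.C 0 W) :=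
      GrothLib.FEt21.etale_app_algebra (D.p 0) (isAffineOpen_preimage hW 0)
    have h1 := (TraceEtale.formallyUnramified_iff_isUnit_det (D.basisC hW he 0)).1 inferInstance
    rw [RingHom.map_det]
    convert h1 using 2
    refine Matrix.ext fun i j => ?_
    rw [Algebra.traceMatrix_apply, Algebra.traceForm_apply, D.basisC_apply, D.basisC_apply,
      ← LefEt7.tau_eq_trace _ (D.good hW he 0)]
    exact (hF 0 W).1 (e i) (e j)
  refine ⟨Z.basicOpen G.det, Z.basicOpen_le _, le_basicOpen_of_isUnit_red hu hyW hy, hW.basicOpen _,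
    F.perfect_of_frame (isFrame_res he (Z.basicOpen_le G.det)) ?_⟩
  have h2 : (Matrix.of fun i j => F.b (Z.basicOpen G.det) (mres E (Z.basicOpen_le G.det) (e i))
      (mres E (Z.basicOpen_le G.det) (e j))) = (Z.presheaf.map (homOfLE (Z.basicOpen_le G.det)).op).hom.mapMatrix G :=
    Matrix.ext fun i j => (F.b_res (Z.basicOpen_le G.det) (e i) (e j)).symm
  rw [h2, ← RingHom.map_det]
  exact Z.toRingedSpace.isUnit_res_basicOpen G.det

include hW he in
theorem exists_kill [IsLocallyNoetherian Z] {δ : Γ(E, W)} (hδ : ∀ n, D.eps n W δ = 0) :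
    ∃ r : Γ(Z, W), IsUnit (red (𝓙 := 𝓙) 0 W r) ∧ r • δ = 0 := by
  classical
  haveI : IsNoetherianRing Γ(Z, W) := IsLocallyNoetherian.component_noetherian ⟨W, hW⟩
  let β := he.basis W le_rfl
  let I := 𝓙.ideal ⟨W, hW⟩
  have hβ : ∀ i, β i = e i := fun i => (he.basis_apply W le_rfl i).trans (mres_self E _ _)
  have hc : ∀ i, β.repr δ i ∈ ⨅ k : ℕ, I ^ k • (⊤ : Submodule Γ(Z, W) Γ(Z, W)) := fun i => by
    refine Submodule.mem_iInf _ |>.2 fun k => ?_
    rw [smul_eq_mul, Ideal.mul_top]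
    refine Ideal.pow_le_pow_right (Nat.le_succ k) ?_
    have h0 : (fun i => red (𝓙 := 𝓙) k W (β.repr δ i)) = 0 := by
      refine (D.basis k W hW m e he).1 ?_
      show ∑ i, (D.p k).app _ (red k W (β.repr δ i)) * D.eps k W (e i) = ∑ i, (D.p k).app _ 0 * D.eps k W (e i)
      have h1 : ∑ i, (D.p k).app _ (red k W (β.repr δ i)) * D.eps k W (e i) = D.eps k W δ := by
        rw [← congrArg (D.eps k W) (β.sum_repr δ), map_sum]
        exact Finset.sum_congr rfl fun i _ => by rw [D.eps_smul, hβ]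
      rw [h1, hδ]
      simp
    have h2 : β.repr δ i ∈ RingHom.ker ((yι 𝓙 k).app W).hom := congrFun h0 i
    rw [(𝓙 ^ (k + 1)).ker_subschemeι_app ⟨W, hW⟩, Scheme.IdealSheafData.ideal_pow] at h2
    exact h2
  choose r hr using fun i => (Ideal.mem_iInf_smul_pow_eq_bot_iff I (β.repr δ i)).1 (hc i)
  refine ⟨∏ i, (1 - (r i : Γ(Z, W))), ?_, ?_⟩
  · show IsUnit (((yι 𝓙 0).app W).hom _)
    rw [map_prod]
    refine IsUnit.prod_iff.2 fun i _ => ?_
    have h3 : (r i : Γ(Z, W)) ∈ RingHom.ker ((yι 𝓙 0).app W).hom := by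
      rw [(𝓙 ^ (0 + 1)).ker_subschemeι_app ⟨W, hW⟩, Scheme.IdealSheafData.ideal_pow]
      show _ ∈ I ^ (0 + 1)
      rw [zero_add, pow_one]
      exact (r i).2
    rw [map_sub, map_one, show (yι 𝓙 0).app W (r i : Γ(Z, W)) = 0 from h3, sub_zero]
    exact isUnit_one
  · refine β.repr.injective (Finsupp.ext fun i => ?_)
    have h4 : (1 - (r i : Γ(Z, W))) * β.repr δ i = 0 := by
      rw [sub_mul, one_mul, sub_eq_zero]
      exact (hr i).symm
    rw [map_smul, map_zero]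
    show (∏ j, (1 - (r j : Γ(Z, W)))) * β.repr δ i = 0
    rw [← Finset.mul_prod_erase Finset.univ _ (Finset.mem_univ i), mul_comm (1 - (r i : Γ(Z, W))), mul_assoc,
      h4, mul_zero]

end FormalAlg

/-- A good neighbourhood: a frame on which the product is defined, satisfies the axioms and is étale. -/
def GoodNhd {E : Z.Modules} (F : Forms E) (W : Z.Opens) : Prop :=
  F.Perfect W ∧ IsAffineOpen W ∧ ∃ (m : ℕ) (e : Fin m → Γ(E, W)),
    FinCov.IsFrame E W e ∧
    ∃ (μ : Γ(E, W) →ₗ[Γ(Z, W)] Γ(E, W) →ₗ[Γ(Z, W)] Γ(E, W)) (o : Γ(E, W)),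
      (∀ a b c, F.b W (μ a b) c = F.t W a b c) ∧ (∀ c, F.b W o c = F.u W c) ∧
      (∀ i j, μ (e i) (e j) = μ (e j) (e i)) ∧
      (∀ i j k, μ (μ (e i) (e j)) (e k) = μ (e i) (μ (e j) (e k))) ∧
      (∀ i, μ o (e i) = e i) ∧
      IsUnit (Matrix.det (Matrix.of fun i j => LinearMap.trace Γ(Z, W) Γ(E, W) (μ (μ (e i) (e j)))))

theorem exists_mu {E : Z.Modules} {F : Forms E} {W : Z.Opens} (hp : F.Perfect W) :
    ∃ (μ : Γ(E, W) →ₗ[Γ(Z, W)] Γ(E, W) →ₗ[Γ(Z, W)] Γ(E, W)) (o : Γ(E, W)),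
      (∀ a b c, F.b W (μ a b) c = F.t W a b c) ∧ (∀ c, F.b W o c = F.u W c) := by
  let ψ := LinearEquiv.ofBijective (F.b W) (hp W le_rfl).1
  refine ⟨(F.t W).compr₂ ψ.symm.toLinearMap, ψ.symm (F.u W), fun a b c => ?_, fun c => ?_⟩
  · exact LinearMap.congr_fun (ψ.apply_symm_apply (F.t W a b)) c
  · exact LinearMap.congr_fun (ψ.apply_symm_apply (F.u W)) c

theorem mu_res {E : Z.Modules} {F : Forms E} {W W' : Z.Opens} (h : W' ≤ W) (hp : F.Perfect W)
    {μ : Γ(E, W) →ₗ[Γ(Z, W)] Γ(E, W) →ₗ[Γ(Z, W)] Γ(E, W)} {μ' : Γ(E, W') →ₗ[Γ(Z, W')] Γ(E, W') →ₗ[Γ(Z, W')] Γ(E, W')}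
    (hμ : ∀ a b c, F.b W (μ a b) c = F.t W a b c) (hμ' : ∀ a b c, F.b W' (μ' a b) c = F.t W' a b c)
    (a b : Γ(E, W)) : mres E h (μ a b) = μ' (mres E h a) (mres E h b) :=
  (hp W' h).1.1 (F.ext_res hp h fun d => by rw [← F.b_res h, hμ, F.t_res h, hμ'])

theorem one_res {E : Z.Modules} {F : Forms E} {W W' : Z.Opens} (h : W' ≤ W) (hp : F.Perfect W)
    {o : Γ(E, W)} {o' : Γ(E, W')} (ho : ∀ c, F.b W o c = F.u W c) (ho' : ∀ c, F.b W' o' c = F.u W' c) :
    mres E h o = o' :=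
  (hp W' h).1.1 (F.ext_res hp h fun d => by rw [← F.b_res h, ho, F.u_res h, ho'])

theorem Forms.Perfect.mono {E : Z.Modules} {F : Forms E} {W W' : Z.Opens} (hW : F.Perfect W) (h : W' ≤ W) :
    F.Perfect W' := fun V hV => ⟨(hW V (hV.trans h)).1, top_unique ((hW V (hV.trans h)).2.ge.trans
      (Submodule.span_mono (by
        rintro _ ⟨d, rfl⟩
        exact ⟨mres E h d, mres_mres E h hV d⟩)))⟩

namespace FormalAlg

variable {𝓙 : Z.IdealSheafData} {E : Z.Modules} (D : FormalAlg 𝓙 E) {F : Forms E}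

theorem exists_goodNhd [IsLocallyNoetherian Z] (hE : FlatMod.IsFinLocFree E) (hF : D.Reduces F) {y : Z}
    (hy : y ∈ (𝓙.support : Set Z)) : ∃ W : Z.Opens, y ∈ W ∧ GoodNhd F W := by
  classical
  obtain ⟨W₀, m, e₀, hy₀, -, hW₀, he₀⟩ := exists_affine_frame hE (V := ⊤) (z := y) trivial
  obtain ⟨W, h₀, hyW, hW, hp⟩ := exists_nhd_det hF hW₀ he₀ hy hy₀
  let e := fun i => mres E h₀ (e₀ i)
  have he : FinCov.IsFrame E W e := isFrame_res he₀ h₀
  obtain ⟨μ, o, hμ, ho⟩ := exists_mu hp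
  have hεμ : ∀ n a b, D.eps n W (μ a b) = D.eps n W a * D.eps n W b := fun n a b =>
    eps_prod hF hW he n (hμ a b)
  have hεo : ∀ n, D.eps n W o = 1 := fun n => eps_unit hF hW he n ho
  choose r₁ hr₁ hr₁' using fun ij : Fin m × Fin m =>
    exists_kill hW he (D := D) (δ := μ (e ij.1) (e ij.2) - μ (e ij.2) (e ij.1)) fun n => by
      rw [map_sub, hεμ, hεμ, mul_comm, sub_self]
  choose r₂ hr₂ hr₂' using fun ijk : Fin m × Fin m × Fin m =>
    exists_kill hW he (D := D) (δ := μ (μ (e ijk.1) (e ijk.2.1)) (e ijk.2.2) -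
      μ (e ijk.1) (μ (e ijk.2.1) (e ijk.2.2))) fun n => by
      rw [map_sub, hεμ, hεμ, hεμ, hεμ, mul_assoc, sub_self]
  choose r₃ hr₃ hr₃' using fun i : Fin m =>
    exists_kill hW he (D := D) (δ := μ o (e i) - e i) fun n => by
      rw [map_sub, hεμ, hεo, one_mul, sub_self]
  let T : Matrix (Fin m) (Fin m) Γ(Z, W) :=
    Matrix.of fun i j => LinearMap.trace Γ(Z, W) Γ(E, W) (μ (μ (e i) (e j)))
  let ρ : Γ(Z, W) →+* Γ(Yn 𝓙 0, yι 𝓙 0 ⁻¹ᵁ W) := ((yι 𝓙 0).app W).hom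
  have hT : IsUnit (ρ T.det) := by
    letI := ((D.p 0).app (yι 𝓙 0 ⁻¹ᵁ W)).hom.toAlgebra
    haveI : Algebra.Etale Γ(Yn 𝓙 0, yι 𝓙 0 ⁻¹ᵁ W) (D.C 0 W) :=
      GrothLib.FEt21.etale_app_algebra (D.p 0) (isAffineOpen_preimage hW 0)
    let β := he.basis W le_rfl
    have hβ : ∀ i, β i = e i := fun i => (he.basis_apply W le_rfl i).trans (mres_self E _ _)
    let b₀ := D.basisC hW he 0
    have h1 := (TraceEtale.formallyUnramified_iff_isUnit_det b₀).1 inferInstance
    rw [RingHom.map_det]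
    convert h1 using 2
    refine Matrix.ext fun i j => ?_
    rw [Algebra.traceMatrix_apply, Algebra.traceForm_apply, D.basisC_apply, D.basisC_apply]
    show ρ (LinearMap.trace Γ(Z, W) Γ(E, W) (μ (μ (e i) (e j)))) = _
    rw [LinearMap.trace_eq_matrix_trace _ β, Matrix.trace, map_sum, Algebra.trace_eq_matrix_trace b₀,
      Matrix.trace]
    refine Finset.sum_congr rfl fun k _ => ?_
    rw [Matrix.diag, Matrix.diag, LinearMap.toMatrix_apply, Algebra.leftMulMatrix_eq_repr_mul]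
    have hx : ∀ x : Γ(E, W), D.eps 0 W x = ∑ l, ρ (β.repr x l) • b₀ l := fun x => by
      rw [← congrArg (D.eps 0 W) (β.sum_repr x), map_sum]
      refine Finset.sum_congr rfl fun l _ => ?_
      rw [D.eps_smul, Algebra.smul_def, hβ, D.basisC_apply]
      rfl
    have h2 := congrArg (fun c => b₀.repr c k) (hx (μ (μ (e i) (e j)) (e k)))
    rw [hεμ, hεμ, ← D.basisC_apply hW he 0 k] at h2
    simp only [map_sum, map_smul, Finsupp.coe_finset_sum, Finset.sum_apply, Finsupp.coe_smul, Pi.smul_apply,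
      Module.Basis.repr_self, Finsupp.single_apply, smul_eq_mul, mul_ite, mul_one, mul_zero,
      Finset.sum_ite_eq', Finset.mem_univ, if_true] at h2
    rw [hβ]
    exact h2.symm
  let r := (∏ x, r₁ x) * (∏ x, r₂ x) * (∏ x, r₃ x) * T.det
  have hru : IsUnit (ρ r) := by
    simp only [r, map_mul, map_prod]
    exact (((IsUnit.prod_iff.2 fun i _ => hr₁ i).mul (IsUnit.prod_iff.2 fun i _ => hr₂ i)).mul
      (IsUnit.prod_iff.2 fun i _ => hr₃ i)).mul hT
  let W' := Z.basicOpen r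
  let h : W' ≤ W := Z.basicOpen_le r
  obtain ⟨μ', o', hμ', ho'⟩ := exists_mu (hp.mono h)
  have hrU : IsUnit (ores h r) := Z.toRingedSpace.isUnit_res_basicOpen r
  have hrU' : (∀ i, IsUnit (ores h (r₁ i))) ∧ (∀ i, IsUnit (ores h (r₂ i))) ∧
      (∀ i, IsUnit (ores h (r₃ i))) ∧ IsUnit (ores h T.det) := by
    simp only [r, ores, map_mul, map_prod] at hrU
    rw [IsUnit.mul_iff, IsUnit.mul_iff, IsUnit.mul_iff, IsUnit.prod_iff, IsUnit.prod_iff, IsUnit.prod_iff] at hrU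
    exact ⟨fun i => hrU.1.1.1 i (Finset.mem_univ i), fun i => hrU.1.1.2 i (Finset.mem_univ i),
      fun i => hrU.1.2 i (Finset.mem_univ i), hrU.2⟩
  have hkill : ∀ {s : Γ(Z, W)} {x y : Γ(E, W)}, IsUnit (ores h s) → s • (x - y) = 0 → mres E h x = mres E h y := by
    intro s x y hs h0
    have h1 := congrArg (mres E h) h0
    rw [mres_smul, show mres E h 0 = 0 from map_zero _, hs.smul_eq_zero] at h1
    exact sub_eq_zero.1 ((map_sub (E.presheaf.map (homOfLE h).op).hom x y).symm.trans h1)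
  refine ⟨W', le_basicOpen_of_isUnit_red hru hyW hy, hp.mono h, hW.basicOpen r, m, fun i => mres E h (e i),
    isFrame_res he h, μ', o', hμ', ho', fun i j => ?_, fun i j k => ?_, fun i => ?_, ?_⟩
  · rw [← mu_res h hp hμ hμ', ← mu_res h hp hμ hμ']
    exact hkill (hrU'.1 (i, j)) (hr₁' (i, j))
  · rw [← mu_res h hp hμ hμ', ← mu_res h hp hμ hμ', ← mu_res h hp hμ hμ', ← mu_res h hp hμ hμ']
    exact hkill (hrU'.2.1 (i, j, k)) (hr₂' (i, j, k))
  · rw [← one_res h hp ho ho', ← mu_res h hp hμ hμ']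
    exact hkill (hrU'.2.2.1 i) (hr₃' i)
  · let β := he.basis W le_rfl
    let β' := he.basis W' h
    have hβ : ∀ i, β i = e i := fun i => (he.basis_apply W le_rfl i).trans (mres_self E _ _)
    have hβ' : ∀ i, β' i = mres E h (e i) := fun i => he.basis_apply W' h i
    have hrepr : ∀ (x : Γ(E, W)) (k : Fin m), β'.repr (mres E h x) k = ores h (β.repr x k) := by
      intro x k
      have h1 : mres E h x = ∑ l, ores h (β.repr x l) • β' l := by
        conv_lhs => rw [← β.sum_repr x]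
        rw [mres, map_sum]
        refine Finset.sum_congr rfl fun l _ => ?_
        rw [hβ' l, ← hβ l]
        exact mres_smul E h _ _
      rw [h1, β'.repr_sum_self]
    convert hrU'.2.2.2 using 1
    rw [show ores h T.det = (Z.presheaf.map (homOfLE h).op).hom T.det from rfl, RingHom.map_det]
    congr 1
    refine Matrix.ext fun i j => ?_
    show LinearMap.trace Γ(Z, W') Γ(E, W') (μ' (μ' (mres E h (e i)) (mres E h (e j)))) =
      ores h (LinearMap.trace Γ(Z, W) Γ(E, W) (μ (μ (e i) (e j))))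
    rw [LinearMap.trace_eq_matrix_trace _ β', LinearMap.trace_eq_matrix_trace _ β, Matrix.trace, Matrix.trace,
      ores, map_sum]
    refine Finset.sum_congr rfl fun k _ => ?_
    rw [Matrix.diag, Matrix.diag, LinearMap.toMatrix_apply, LinearMap.toMatrix_apply, hβ', hβ,
      ← mu_res h hp hμ hμ', ← mu_res h hp hμ hμ', hrepr]

end FormalAlg

end GrothLib.EtAlgz21
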