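import Groth.Agent.EtAlgz21.Alg
import Groth.Agent.EtAlgz21.Nhd
import Groth.Agent.Lib.RLpsi8.GammaIso
import Groth.Agent.Lib.LefEt7.Cover
import Groth.Agent.Lib.AffAlg8.Hom

/-!
# The finite étale cover near the closed subscheme
-/

set_option autoImplicit false
set_option backward.isDefEq.respectTransparency false
set_option linter.style.haveILetI false

universe u

open CategoryTheory CategoryTheory.Limits AlgebraicGeometry TopologicalSpace Opposite

noncomputable section

namespace GrothLib.EtAlgz21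

variable {Z : Scheme.{u}} {E : Z.Modules} (F : Forms E) (U : Z.Opens)

theorem restrict_smul {V : U.toScheme.Opens} (r : Γ(U.toScheme, V)) (x : Γ(E.restrict U.ι, V)) :
    (show Γ(E, U.ι ''ᵁ V) from r • x) = (show Γ(Z, U.ι ''ᵁ V) from r) • (show Γ(E, U.ι ''ᵁ V) from x) := by
  show ((U.ι.appIso V).inv r) • (show Γ(E, U.ι ''ᵁ V) from x) = _
  rw [Scheme.Opens.ι_appIso]
  rfl

/-- The forms on an open subscheme. -/
def Forms.restrict : Forms (E.restrict U.ι) where
  b V :=
    { toFun := fun x =>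
        { toFun := fun y => F.b (U.ι ''ᵁ V) x y
          map_add' := fun y y' => map_add (F.b (U.ι ''ᵁ V) x) y y'
          map_smul' := fun r y => (congrArg (F.b (U.ι ''ᵁ V) x) (restrict_smul U r y)).trans
            (LinearMap.map_smul (F.b (U.ι ''ᵁ V) x) (show Γ(Z, U.ι ''ᵁ V) from r) y) }
      map_add' := fun x x' => LinearMap.ext fun y => LinearMap.map_add₂ (F.b (U.ι ''ᵁ V)) x x' y
      map_smul' := fun r x => LinearMap.ext fun y => (congrArg (fun a => F.b (U.ι ''ᵁ V) a y) (restrict_smul U r x)).trans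
        (LinearMap.map_smul₂ (F.b (U.ι ''ᵁ V)) (show Γ(Z, U.ι ''ᵁ V) from r) x y) }
  t V :=
    { toFun := fun x =>
        { toFun := fun y =>
            { toFun := fun z => F.t (U.ι ''ᵁ V) x y z
              map_add' := fun z z' => map_add (F.t (U.ι ''ᵁ V) x y) z z'
              map_smul' := fun r z => (congrArg (F.t (U.ι ''ᵁ V) x y) (restrict_smul U r z)).trans
                (LinearMap.map_smul (F.t (U.ι ''ᵁ V) x y) (show Γ(Z, U.ι ''ᵁ V) from r) z) }
          map_add' := fun y y' => LinearMap.ext fun z => LinearMap.map_add₂ (F.t (U.ι ''ᵁ V) x) y y' z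
          map_smul' := fun r y => LinearMap.ext fun z => (congrArg (fun a => F.t (U.ι ''ᵁ V) x a z) (restrict_smul U r y)).trans
            (LinearMap.map_smul₂ (F.t (U.ι ''ᵁ V) x) (show Γ(Z, U.ι ''ᵁ V) from r) y z) }
      map_add' := fun x x' => LinearMap.ext fun y => LinearMap.ext fun z =>
        LinearMap.congr_fun (LinearMap.map_add₂ (F.t (U.ι ''ᵁ V)) x x' y) z
      map_smul' := fun r x => LinearMap.ext fun y => LinearMap.ext fun z =>
        (congrArg (fun a => F.t (U.ι ''ᵁ V) a y z) (restrict_smul U r x)).trans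
          (LinearMap.congr_fun (LinearMap.map_smul₂ (F.t (U.ι ''ᵁ V)) (show Γ(Z, U.ι ''ᵁ V) from r) x y) z) }
  u V :=
    { toFun := fun x => F.u (U.ι ''ᵁ V) x
      map_add' := fun x y => map_add (F.u (U.ι ''ᵁ V)) x y
      map_smul' := fun r x => (congrArg (F.u (U.ι ''ᵁ V)) (restrict_smul U r x)).trans
        (LinearMap.map_smul (F.u (U.ι ''ᵁ V)) (show Γ(Z, U.ι ''ᵁ V) from r) x) }
  b_res h x y := F.b_res (U.ι.image_mono h) x y
  t_res h x y z := F.t_res (U.ι.image_mono h) x y z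
  u_res h x := F.u_res (U.ι.image_mono h) x

variable {F U}

theorem isFrame_restrict {W : U.toScheme.Opens} {m : ℕ} {e : Fin m → Γ(E, U.ι ''ᵁ W)}
    (he : FinCov.IsFrame E (U.ι ''ᵁ W) e) : FinCov.IsFrame (E.restrict U.ι) W e := fun V hV => by
  refine Eq.mpr (congrArg (Function.Bijective (α := Fin m → Γ(U.toScheme, V)) (β := Γ(E.restrict U.ι, V)))
    (funext fun c => Finset.sum_congr rfl fun i _ => restrict_smul U (c i) _)) ?_
  exact he (U.ι ''ᵁ V) (U.ι.image_mono hV)

theorem restrict_b (V : U.toScheme.Opens) (x y : Γ(E, U.ι ''ᵁ V)) :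
    (F.restrict U).b V x y = F.b (U.ι ''ᵁ V) x y := rfl

theorem restrict_t (V : U.toScheme.Opens) (x y z : Γ(E, U.ι ''ᵁ V)) :
    (F.restrict U).t V x y z = F.t (U.ι ''ᵁ V) x y z := rfl

theorem restrict_u (V : U.toScheme.Opens) (x : Γ(E, U.ι ''ᵁ V)) :
    (F.restrict U).u V x = F.u (U.ι ''ᵁ V) x := rfl

theorem mres_restrict {V W : U.toScheme.Opens} (h : V ≤ W) (x : Γ(E, U.ι ''ᵁ W)) :
    mres (E.restrict U.ι) h x = mres E (U.ι.image_mono h) x := rfl

theorem mul_spec_restrict (hp : ∀ z : U.toScheme, ∃ W : U.toScheme.Opens, z ∈ W ∧ (F.restrict U).Perfect W)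
    (V : U.toScheme.Opens) (a b : Γ(E, U.ι ''ᵁ V)) (W : U.toScheme.Opens) (k : W ≤ V) (c : Γ(E, U.ι ''ᵁ W)) :
    F.b (U.ι ''ᵁ W) (mres E (U.ι.image_mono k) ((F.restrict U).mul hp V a b)) c =
      F.t (U.ι ''ᵁ W) (mres E (U.ι.image_mono k) a) (mres E (U.ι.image_mono k) b) c :=
  (F.restrict U).mul_spec hp V a b W k c

theorem one_spec_restrict (hp : ∀ z : U.toScheme, ∃ W : U.toScheme.Opens, z ∈ W ∧ (F.restrict U).Perfect W)
    (V : U.toScheme.Opens) (W : U.toScheme.Opens) (k : W ≤ V) (c : Γ(E, U.ι ''ᵁ W)) :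
    F.b (U.ι ''ᵁ W) (mres E (U.ι.image_mono k) ((F.restrict U).one hp V)) c = F.u (U.ι ''ᵁ W) c :=
  (F.restrict U).one_spec hp V W k c

theorem perfect_restrict {W : U.toScheme.Opens} (h : F.Perfect (U.ι ''ᵁ W)) : (F.restrict U).Perfect W := by
  intro V hV
  obtain ⟨h1, h2⟩ := h (U.ι ''ᵁ V) (U.ι.image_mono hV)
  refine ⟨⟨fun x y e => h1.1 (LinearMap.ext fun z => LinearMap.congr_fun e z), fun φ => ?_⟩,
    top_unique fun x _ => ?_⟩
  swap
  · suffices key : ∀ y : Γ(E, U.ι ''ᵁ V), y ∈ Submodule.span Γ(Z, U.ι ''ᵁ V) (Set.range (mres E (U.ι.image_mono hV))) →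
        (show Γ(E.restrict U.ι, V) from y) ∈
          Submodule.span Γ(U.toScheme, V) (Set.range (mres (E.restrict U.ι) hV)) from
      key x (by rw [h2]; trivial)
    intro y hy
    induction hy using Submodule.span_induction with
    | mem y hy => exact Submodule.subset_span hy
    | zero => exact zero_mem _
    | add a b _ _ ha hb => exact add_mem ha hb
    | smul r a _ ha =>
      have h := Submodule.smul_mem _ (show Γ(U.toScheme, V) from r) ha
      exact (restrict_smul U (show Γ(U.toScheme, V) from r) a) ▸ h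
  obtain ⟨x, hx⟩ := h1.2
    { toFun := fun z => φ z
      map_add' := fun a b => map_add φ a b
      map_smul' := fun r a => (congrArg φ (restrict_smul U (show Γ(U.toScheme, V) from r) a).symm).trans
        (LinearMap.map_smul φ (show Γ(U.toScheme, V) from r) a) }
  exact ⟨x, LinearMap.ext fun z => LinearMap.congr_fun hx z⟩

theorem image_preimage_of_le {W : Z.Opens} (h : W ≤ U) : U.ι ''ᵁ (U.ι ⁻¹ᵁ W) = W := by
  rw [Scheme.Hom.image_preimage_eq_opensRange_inf, Scheme.Opens.opensRange_ι]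
  exact inf_eq_right.2 h

/-- Near every point of the open the product is defined. -/
theorem restrict_hp (hU : ∀ z ∈ U, ∃ W : Z.Opens, W ≤ U ∧ z ∈ W ∧ GoodNhd F W) (z : U.toScheme) :
    ∃ W : U.toScheme.Opens, z ∈ W ∧ (F.restrict U).Perfect W := by
  obtain ⟨W, hWU, hzW, hp, -⟩ := hU z.1 z.2
  exact ⟨U.ι ⁻¹ᵁ W, hzW, perfect_restrict (by rw [image_preimage_of_le hWU]; exact hp)⟩

theorem axioms_restrict (hU : ∀ z ∈ U, ∃ W : Z.Opens, W ≤ U ∧ z ∈ W ∧ GoodNhd F W) :
    (F.restrict U).Axioms := by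
  refine ⟨restrict_hp hU, fun z => ?_⟩
  obtain ⟨W₀, hWU, hzW, hg⟩ := hU z.1 z.2
  obtain ⟨W, hW⟩ : ∃ W : U.toScheme.Opens, W = U.ι ⁻¹ᵁ W₀ := ⟨_, rfl⟩
  obtain rfl : W₀ = U.ι ''ᵁ W := by rw [hW, image_preimage_of_le hWU]
  obtain ⟨hp, -, m, e, he, μ, o, hμ, ho, hc, ha, h1, -⟩ := hg
  have hpW := perfect_restrict hp
  have hmul : ∀ a b : Γ(E, U.ι ''ᵁ W), (F.restrict U).mul (restrict_hp hU) W a b = μ a b := fun a b => by
    refine (hpW W le_rfl).1.1 (LinearMap.ext fun c => ?_)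
    have := (F.restrict U).mul_spec (restrict_hp hU) W a b W le_rfl c
    rw [mres_self, mres_self, mres_self] at this
    exact this.trans (hμ a b c).symm
  have hone : (F.restrict U).one (restrict_hp hU) W = o := by
    refine (hpW W le_rfl).1.1 (LinearMap.ext fun c => ?_)
    have := (F.restrict U).one_spec (restrict_hp hU) W W le_rfl c
    rw [mres_self] at this
    exact this.trans (ho c).symm
  refine ⟨W, m, e, by rw [hW]; exact hzW, isFrame_restrict he, fun i j => ?_, fun i j k => ?_, fun i => ?_⟩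
  · rw [hmul, hmul]; exact hc i j
  · rw [hmul, hmul, hmul, hmul]; exact ha i j k
  · rw [hone, hmul]; exact h1 i

variable (hU : ∀ z ∈ U, ∃ W : Z.Opens, W ≤ U ∧ z ∈ W ∧ GoodNhd F W)

/-- The algebra on the open. -/
abbrev algU [(E.restrict U.ι).IsQuasicoherent] : RelSpec.QCAlg U.toScheme := alg (axioms_restrict hU)

include hU in
set_option maxHeartbeats 2000000 in
theorem finite_etale_app [(E.restrict U.ι).IsQuasicoherent] (z : U.toScheme) :
    ∃ W : U.toScheme.Opens, z ∈ W ∧ IsAffineOpen W ∧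
      ((algU hU).str.app (op W)).hom.Finite ∧ ((algU hU).str.app (op W)).hom.Etale := by
  classical
  obtain ⟨W₀, hWU, hzW, hg⟩ := hU z.1 z.2
  obtain ⟨W, hW⟩ : ∃ W : U.toScheme.Opens, W = U.ι ⁻¹ᵁ W₀ := ⟨_, rfl⟩
  obtain rfl : W₀ = U.ι ''ᵁ W := by rw [hW, image_preimage_of_le hWU]
  obtain ⟨hp, haff, m, e, he, μ, o, hμ, -, -, -, -, hdet⟩ := hg
  let H := axioms_restrict hU
  have hWaff : IsAffineOpen W := U.ι.isAffineOpen_iff_of_isOpenImmersion.1 haff
  refine ⟨W, by rw [hW]; exact hzW, hWaff, ?_⟩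
  letI i1 : Algebra Γ(U.toScheme, W) (Sec H W) := (Sec.str H).toAlgebra
  have hmul : ∀ a b : Γ(E, U.ι ''ᵁ W), (F.restrict U).mul (restrict_hp hU) W a b = μ a b := fun a b => by
    refine ((perfect_restrict hp) W le_rfl).1.1 (LinearMap.ext fun c => ?_)
    have := (F.restrict U).mul_spec (restrict_hp hU) W a b W le_rfl c
    rw [mres_self, mres_self, mres_self] at this
    exact this.trans (hμ a b c).symm
  have hframe : FinCov.IsFrame (E.restrict U.ι) W e := isFrame_restrict he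
  let β := hframe.basis W le_rfl
  let b : Module.Basis (Fin m) Γ(U.toScheme, W) (Sec H W) :=
    β.map ({ toFun := fun x => x, invFun := fun x => x, left_inv := fun _ => rfl, right_inv := fun _ => rfl,
             map_add' := fun _ _ => rfl,
             map_smul' := fun r x => ((Algebra.smul_def r (show Sec H W from x)).trans (Sec.str_mul H r x)).symm } :
      Γ(E.restrict U.ι, W) ≃ₗ[Γ(U.toScheme, W)] Sec H W)
  have hb : ∀ i, b i = e i := fun i => (hframe.basis_apply W le_rfl i).trans (mres_self _ _ _)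
  haveI : Module.Free Γ(U.toScheme, W) (Sec H W) := Module.Free.of_basis b
  haveI : Module.Finite Γ(U.toScheme, W) (Sec H W) := Module.Finite.of_basis b
  have htr : Algebra.traceMatrix Γ(U.toScheme, W) b =
      Matrix.of fun i j => LinearMap.trace Γ(Z, U.ι ''ᵁ W) Γ(E, U.ι ''ᵁ W) (μ (μ (e i) (e j))) := by
    let β₀ := he.basis (U.ι ''ᵁ W) le_rfl
    have hrepr : ∀ (y : Γ(E, U.ι ''ᵁ W)) (k : Fin m),
        β.repr (show Γ(E.restrict U.ι, W) from y) k = (show Γ(U.toScheme, W) from β₀.repr y k) := by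
      intro y k
      have h1 : (show Γ(E.restrict U.ι, W) from y) = ∑ l, (show Γ(U.toScheme, W) from β₀.repr y l) • β l := by
        refine (β₀.sum_repr y).symm.trans (Finset.sum_congr rfl fun l _ => ?_)
        refine Eq.trans ?_ (restrict_smul U _ _).symm
        rw [show β₀ l = e l from (he.basis_apply _ le_rfl l).trans (mres_self _ _ _),
          show β l = e l from (hframe.basis_apply W le_rfl l).trans (mres_self _ _ _)]
      exact (congrArg (fun v => β.repr v k) h1).trans (by rw [β.repr_sum_self])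
    refine Matrix.ext fun i j => ?_
    rw [Algebra.traceMatrix_apply, Algebra.traceForm_apply, Algebra.trace_eq_matrix_trace b, hb, hb]
    show _ = LinearMap.trace Γ(Z, U.ι ''ᵁ W) Γ(E, U.ι ''ᵁ W) (μ (μ (e i) (e j)))
    rw [LinearMap.trace_eq_matrix_trace _ β₀, Matrix.trace, Matrix.trace]
    refine Finset.sum_congr rfl fun k _ => ?_
    rw [Matrix.diag, Matrix.diag, Algebra.leftMulMatrix_eq_repr_mul, LinearMap.toMatrix_apply, hb k,
      show β₀ k = e k from (he.basis_apply _ le_rfl k).trans (mres_self _ _ _)]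
    show β.repr ((F.restrict U).mul (restrict_hp hU) W ((F.restrict U).mul (restrict_hp hU) W (e i) (e j)) (e k)) k = _
    rw [hmul, hmul]
    exact hrepr _ _
  haveI : Algebra.FormallyUnramified Γ(U.toScheme, W) (Sec H W) := by
    rw [TraceEtale.formallyUnramified_iff_isUnit_det b, htr]
    exact hdet
  haveI : Module.FinitePresentation Γ(U.toScheme, W) (Sec H W) := Module.finitePresentation_of_projective _ _
  haveI : Algebra.FinitePresentation Γ(U.toScheme, W) (Sec H W) := Algebra.FinitePresentation.of_finitePresentation ..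
  have h1 : (Sec.str H (V := W)).Finite := ‹Module.Finite Γ(U.toScheme, W) (Sec H W)›
  have h2 : (Sec.str H (V := W)).Etale :=
    (Algebra.Etale.of_formallyUnramified_of_flat : Algebra.Etale Γ(U.toScheme, W) (Sec H W))
  exact ⟨h1, h2⟩

/-- The cover of the open is finite étale. -/
theorem prop_π [(E.restrict U.ι).IsQuasicoherent] : IsFinite (algU hU).π ∧ Etale (algU hU).π := by
  choose W hzW hW hfin het using finite_etale_app hU
  let A := algU hU
  have hsq : ∀ z, IsPullback (A.ι (W z) (hW z)) (Spec.map (A.str.app (op (W z)))) A.π (hW z).fromSpec := fun z =>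
    IsPullback.flip (IsOpenImmersion.isPullback _ _ _ _ (A.ι_π (W z) (hW z))
      (by rw [(hW z).opensRange_fromSpec]; exact A.π_preimage (W z) (hW z)))
  let 𝒰 := U.toScheme.openCoverOfIsOpenCover W (top_unique fun z _ => Opens.mem_iSup.2 ⟨z, hzW z⟩)
  have key : ∀ (P : MorphismProperty Scheme.{u}) [IsZariskiLocalAtTarget P],
      (∀ z, P (Spec.map (A.str.app (op (W z))))) → P A.π := by
    intro P _ hP
    refine IsZariskiLocalAtTarget.of_iSup_eq_top (P := P) W (top_unique fun z _ => Opens.mem_iSup.2 ⟨z, hzW z⟩) fun z => ?_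
    have hs := (hsq z).flip
    have e := isPullback_morphismRestrict A.π (W z)
    have h2 : IsPullback (A.π ∣_ W z ≫ (hW z).isoSpec.hom) (A.π ⁻¹ᵁ W z).ι (hW z).fromSpec A.π := by
      refine e.of_iso (Iso.refl _) (hW z).isoSpec (Iso.refl _) (Iso.refl _) (by simp) (by simp) ?_ (by simp)
      simp [IsAffineOpen.isoSpec_hom]
    rw [← MorphismProperty.cancel_right_of_respectsIso P (A.π ∣_ W z) (hW z).isoSpec.hom,
      ← h2.isoIsPullback_hom_fst _ _ hs, MorphismProperty.cancel_left_of_respectsIso P]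
    exact hP z
  exact ⟨key @IsFinite fun z => (IsFinite.SpecMap_iff _).2 (hfin z),
    key @Etale fun z => (HasRingHomProperty.Spec_iff (P := @Etale)).2 (het z)⟩

section compare

variable {𝓙 : Z.IdealSheafData} (D : FormalAlg 𝓙 E) (hE : FlatMod.IsFinLocFree E) (hF : D.Reduces F)

include hU hE hF in
theorem eps_mul_one (n : ℕ) (V : U.toScheme.Opens) :
    (∀ a b : Γ(E, U.ι ''ᵁ V), D.eps n (U.ι ''ᵁ V) ((F.restrict U).mul (restrict_hp hU) V a b) =
      D.eps n (U.ι ''ᵁ V) a * D.eps n (U.ι ''ᵁ V) b) ∧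
    D.eps n (U.ι ''ᵁ V) ((F.restrict U).one (restrict_hp hU) V) = 1 := by
  have key : ∀ y ∈ yι 𝓙 n ⁻¹ᵁ (U.ι ''ᵁ V), ∃ (W : U.toScheme.Opens) (m : ℕ) (e : Fin m → Γ(E, U.ι ''ᵁ W)),
      W ≤ V ∧ yι 𝓙 n y ∈ U.ι ''ᵁ W ∧ IsAffineOpen (U.ι ''ᵁ W) ∧ FinCov.IsFrame E (U.ι ''ᵁ W) e := by
    intro y hy
    obtain ⟨W₀, m, e, hy₀, hle, hW₀, he⟩ := FormalAlg.exists_affine_frame hE (V := U.ι ''ᵁ V) hy
    have hW₀U : W₀ ≤ U := hle.trans (by
      rintro _ ⟨v, -, rfl⟩
      exact v.2)
    obtain ⟨W, rfl⟩ : ∃ W, W₀ = U.ι ''ᵁ W := ⟨U.ι ⁻¹ᵁ W₀, (image_preimage_of_le hW₀U).symm⟩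
    exact ⟨W, m, e, (U.ι.image_le_image_iff _ _).1 hle, hy₀, hW₀, he⟩
  have ext : ∀ {c c' : D.C n (U.ι ''ᵁ V)},
      (∀ (W : U.toScheme.Opens) (m : ℕ) (e : Fin m → Γ(E, U.ι ''ᵁ W)) (h : W ≤ V),
        IsAffineOpen (U.ι ''ᵁ W) → FinCov.IsFrame E (U.ι ''ᵁ W) e →
        LefEt7.resU (D.p n) ((yι 𝓙 n).preimage_mono (U.ι.image_mono h)) c =
          LefEt7.resU (D.p n) ((yι 𝓙 n).preimage_mono (U.ι.image_mono h)) c') → c = c' := by
    intro c c' h
    refine LefEt7.sheaf_ext fun x hx => ?_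
    obtain ⟨W, m, e, hWV, hy, hW, he⟩ := key (D.p n x) hx
    exact ⟨_, (D.p n).preimage_mono ((yι 𝓙 n).preimage_mono (U.ι.image_mono hWV)), hy, h W m e hWV hW he⟩
  refine ⟨fun a b => ext fun W m e h hW he => ?_, ext fun W m e h hW he => ?_⟩
  · rw [LefEt7.resU_mul, ← D.eps_res, ← D.eps_res, ← D.eps_res]
    refine FormalAlg.eps_prod hF hW he n fun c => ?_
    exact mul_spec_restrict (restrict_hp hU) V a b W h c
  · rw [← D.eps_res]
    refine (FormalAlg.eps_unit hF hW he n fun c => ?_).trans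
      (map_one ((D.R n).presheaf.map (homOfLE ((D.p n).preimage_mono
        ((yι 𝓙 n).preimage_mono (U.ι.image_mono h)))).op).hom).symm
    exact one_spec_restrict (restrict_hp hU) V W h c

variable [(E.restrict U.ι).IsQuasicoherent] (i : Yn 𝓙 0 ⟶ U.toScheme) (hi : i ≫ U.ι = yι 𝓙 0)

include hi in
theorem preimage_eq (V : U.toScheme.Opens) : (D.p 0 ≫ i) ⁻¹ᵁ V = D.p 0 ⁻¹ᵁ (yι 𝓙 0 ⁻¹ᵁ (U.ι ''ᵁ V)) := by
  rw [← hi]
  rw [Scheme.Hom.comp_preimage, Scheme.Hom.comp_preimage i U.ι, Scheme.Hom.preimage_image_eq]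

/-- The comparison of functions. -/
def compHom (V : U.toScheme.Opens) :
    Sec (axioms_restrict hU) V →+* Γ(D.R 0, (D.p 0 ≫ i) ⁻¹ᵁ V) :=
  ((D.R 0).presheaf.map (homOfLE (preimage_eq D i hi V).le).op).hom.comp
    { toFun := fun x => D.eps 0 (U.ι ''ᵁ V) x
      map_one' := (eps_mul_one hU D hE hF 0 V).2
      map_mul' := fun a b => (eps_mul_one hU D hE hF 0 V).1 a b
      map_zero' := map_zero (D.eps 0 (U.ι ''ᵁ V))
      map_add' := fun a b => map_add (D.eps 0 (U.ι ''ᵁ V)) a b }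

theorem compHom_apply (V : U.toScheme.Opens) (x : Γ(E, U.ι ''ᵁ V)) :
    compHom hU D hE hF i hi V x =
      (D.R 0).presheaf.map (homOfLE (preimage_eq D i hi V).le).op (D.eps 0 (U.ι ''ᵁ V) x) := rfl

end compare

end GrothLib.EtAlgz21
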