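import Groth.Agent.EtAlgz21.Transport
import Groth.Agent.EtAlgz21.Restrict

/-!
# Algebraisation of finite etale covers from one bundle on a Lefschetz neighbourhood
-/

set_option autoImplicit false

universe u

open CategoryTheory CategoryTheory.Limits AlgebraicGeometry TopologicalSpace

noncomputable section

namespace GrothLib.EtAlgz21

/-- A finite etale cover of the closed subscheme extends to a neighbourhood, given an algebraization of its
formal module on an open with bijective formal homomorphisms. -/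
theorem exists_cover_nhd {X : Scheme.{u}} [IsLocallyNoetherian X] (𝓘 : X.IdealSheafData)
    (R : FEt.Cat 𝓘.subscheme) (U₀ : X.Opens) (E : (U₀ : Scheme.{u}).Modules)
    (hUI : (𝓘.support : Set X) ⊆ (U₀ : Set X)) (hE : FlatMod.IsFinLocFree E)
    (hθ : Nonempty (FSch.completionMod 𝓘 ((Scheme.Modules.pushforward U₀.ι).obj E) ≅ sys 𝓘 R))
    (hL : ∀ M : (U₀ : Scheme.{u}).Modules, FlatMod.IsFinLocFree M →
      Lef.HomToFormalBijective (𝓘.comap U₀.ι) M) :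
    ∃ (U : X.Opens) (R' : FEt.Cat (U : Scheme.{u})), (𝓘.support : Set X) ⊆ (U : Set X) ∧ U ≤ U₀ ∧
      ∀ i : 𝓘.subscheme ⟶ (U : Scheme.{u}), i ≫ U.ι = 𝓘.subschemeι →
        Nonempty ((FEt.restrict i).obj R' ≅ R) := by
  obtain ⟨θ⟩ := hθ
  let D := formalAlg hUI θ hE
  obtain ⟨F, hF⟩ := D.exists_forms hE hL
  let U₁ : U₀.toScheme.Opens := sSup {W | GoodNhd F W}
  have hU : ∀ z ∈ U₁, ∃ W : U₀.toScheme.Opens, W ≤ U₁ ∧ z ∈ W ∧ GoodNhd F W := by
    intro z hz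
    obtain ⟨W, hW, hzW⟩ := Opens.mem_sSup.1 hz
    exact ⟨W, le_sSup hW, hzW, hW⟩
  haveI : E.IsQuasicoherent := (GrothLib.Euler.isCoh_of_isFinLocFree hE).1
  haveI : (E.restrict U₁.ι).IsQuasicoherent := inferInstance
  let g : U₁.toScheme ≅ (U₀.ι ''ᵁ U₁).toScheme := U₀.ι.isoImage U₁
  have hπ := prop_π hU
  haveI : IsFinite (algU hU).π := hπ.1
  haveI : Etale (algU hU).π := hπ.2
  refine ⟨U₀.ι ''ᵁ U₁, MorphismProperty.Over.mk ⊤ ((algU hU).π ≫ g.hom) ⟨inferInstance, inferInstance⟩,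
    fun x hx => ?_, U₀.ι_image_le U₁, fun i hi => ?_⟩
  · have hx' : (⟨x, hUI hx⟩ : U₀.toScheme) ∈ ((𝓘.comap U₀.ι).support : Set U₀.toScheme) := by
      rw [Scheme.IdealSheafData.support_comap]
      exact hx
    obtain ⟨W, hxW, hW⟩ := D.exists_goodNhd hE hF hx'
    exact ⟨⟨x, hUI hx⟩, Opens.mem_sSup.2 ⟨W, hW, hxW⟩, rfl⟩
  haveI := isIso_kap (𝓘 := 𝓘) U₀ hUI 0
  let b : Yn (𝓘.comap U₀.ι) 0 ≅ 𝓘.subscheme := asIso (kap U₀ 0 ≫ inv (j0 𝓘))
  let i' : Yn (𝓘.comap U₀.ι) 0 ⟶ U₁.toScheme := b.hom ≫ i ≫ g.inv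
  have hi' : i' ≫ U₁.ι = yι (𝓘.comap U₀.ι) 0 := by
    rw [← cancel_mono U₀.ι, Category.assoc, Category.assoc, Category.assoc,
      Scheme.Hom.isoImage_inv_ι, hi, ← kap_yι]
    show (kap U₀ 0 ≫ inv (j0 𝓘)) ≫ 𝓘.subschemeι = _
    rw [Category.assoc]
    congr 1
    rw [IsIso.inv_comp_eq, j0_yι]
  obtain ⟨φ, hφ⟩ := exists_isPullback hU D hE hF i' hi'
  let a : (lev 𝓘 R 0).left ≅ R.left :=
    @asIso _ _ _ _ (pullback.fst R.hom (inv (j0 𝓘))) (pullback_fst_iso_of_right_iso R.hom (inv (j0 𝓘)))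
  have hsq : IsPullback (a.inv ≫ φ) R.hom ((algU hU).π ≫ g.hom) i := by
    refine hφ.of_iso a (Iso.refl _) b g ?_ ?_ ?_ ?_
    · exact (Category.comp_id φ).trans (a.hom_inv_id_assoc φ).symm
    · show pu hUI 0 ≫ kap U₀ 0 ≫ inv (j0 𝓘) = pullback.fst R.hom (inv (j0 𝓘)) ≫ R.hom
      rw [← Category.assoc, pu_kap]
      exact (pullback.condition).symm
    · simp
    · simp [i', g]
  refine ⟨MorphismProperty.Over.isoMk hsq.isoPullback.symm ?_⟩
  exact hsq.isoPullback_inv_snd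

end GrothLib.EtAlgz21
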