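import Groth.Agent.EtAlgz21.Formal
import Groth.Agent.Lib.FEt21.Thick
import Groth.Agent.Lib.UnivThick.FOT
import Groth.Prelude.Def_FSch2

/-!
# Lifting a cover to all thickenings; thickenings inside an open
-/

set_option autoImplicit false
set_option backward.isDefEq.respectTransparency false
set_option linter.style.haveILetI false

universe u

open CategoryTheory CategoryTheory.Limits AlgebraicGeometry TopologicalSpace Opposite

noncomputable section

namespace GrothLib.EtAlgz21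

variable {X : Scheme.{u}} (𝓘 : X.IdealSheafData)

/-- The transition maps of the completion. -/
abbrev tv (n : ℕ) : Yn 𝓘 n ⟶ Yn 𝓘 (n + 1) :=
  Scheme.IdealSheafData.inclusion (FSch.pow_succ_le X 𝓘 n)

theorem tv_yι (n : ℕ) : tv 𝓘 n ≫ yι 𝓘 (n + 1) = yι 𝓘 n :=
  Scheme.IdealSheafData.inclusion_subschemeι _

theorem support_pow (n : ℕ) : ((𝓘 ^ (n + 1)).support : Set X) = 𝓘.support := by
  induction n with
  | zero => rw [zero_add, pow_one]
  | succ m ih =>
    rw [pow_succ, Scheme.IdealSheafData.support_mul]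
    simp [TopologicalSpace.Closeds.coe_sup, ih]

theorem range_yι (n : ℕ) : Set.range (yι 𝓘 n) = (𝓘.support : Set X) :=
  (Scheme.IdealSheafData.range_subschemeι _).trans (support_pow 𝓘 n)

instance surjective_tv (n : ℕ) : Surjective (tv 𝓘 n) := by
  refine ⟨fun y => ?_⟩
  obtain ⟨x, hx⟩ : yι 𝓘 (n + 1) y ∈ Set.range (yι 𝓘 n) := by
    rw [range_yι, ← range_yι 𝓘 (n + 1)]; exact ⟨y, rfl⟩
  refine ⟨x, (yι 𝓘 (n + 1)).isClosedEmbedding.injective ?_⟩
  rw [← Scheme.Hom.comp_apply, tv_yι, hx]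

theorem isIso_inclusion {I J : X.IdealSheafData} (h : I = J) :
    IsIso (Scheme.IdealSheafData.inclusion h.le) := by
  subst h
  rw [show Scheme.IdealSheafData.inclusion (le_refl I) = 𝟙 _ from
    (cancel_mono I.subschemeι).1 (by rw [Scheme.IdealSheafData.inclusion_subschemeι, Category.id_comp])]
  infer_instance

theorem pow_zero_succ : 𝓘 ^ (0 + 1) = 𝓘 := by rw [zero_add, pow_one]

/-- The closed subscheme as the first level. -/
abbrev j0 : 𝓘.subscheme ⟶ Yn 𝓘 0 := Scheme.IdealSheafData.inclusion (pow_zero_succ 𝓘).le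

instance : IsIso (j0 𝓘) := isIso_inclusion (pow_zero_succ 𝓘)

theorem j0_yι : j0 𝓘 ≫ yι 𝓘 0 = 𝓘.subschemeι :=
  Scheme.IdealSheafData.inclusion_subschemeι _

variable (R : FEt.Cat 𝓘.subscheme)

/-- The lifts of a cover of the closed subscheme. -/
def lev : ∀ n, FEt.Cat (Yn 𝓘 n)
  | 0 => (FEt.restrict (inv (j0 𝓘))).obj R
  | n + 1 =>
    haveI := GrothLib.FEt21.isEquivalence_of_thickening (tv 𝓘 n)
    (FEt.restrict (tv 𝓘 n)).inv.obj (lev n)

/-- The structure maps of the lifts. -/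
abbrev pv (n : ℕ) : (lev 𝓘 R n).left ⟶ Yn 𝓘 n := (lev 𝓘 R n).hom

instance (n : ℕ) : IsFinite (pv 𝓘 R n) := (lev 𝓘 R n).prop.1
instance (n : ℕ) : Etale (pv 𝓘 R n) := (lev 𝓘 R n).prop.2

theorem exists_sq (n : ℕ) : ∃ t : (lev 𝓘 R n).left ⟶ (lev 𝓘 R (n + 1)).left,
    IsPullback t (pv 𝓘 R n) (pv 𝓘 R (n + 1)) (tv 𝓘 n) := by
  haveI := GrothLib.FEt21.isEquivalence_of_thickening (tv 𝓘 n)
  let e : (FEt.restrict (tv 𝓘 n)).obj (lev 𝓘 R (n + 1)) ≅ lev 𝓘 R n :=
    (FEt.restrict (tv 𝓘 n)).asEquivalence.counitIso.app (lev 𝓘 R n)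
  refine ⟨e.inv.left ≫ pullback.fst _ _, ?_⟩
  refine (IsPullback.of_hasPullback (pv 𝓘 R (n + 1)) (tv 𝓘 n)).of_iso
    ((MorphismProperty.Over.forget _ ⊤ _ ⋙ Over.forget _).mapIso e) (Iso.refl _) (Iso.refl _) (Iso.refl _)
    ?_ ?_ ?_ ?_
  · show pullback.fst _ _ ≫ 𝟙 _ = e.hom.left ≫ e.inv.left ≫ pullback.fst _ _
    rw [← Category.assoc, show e.hom.left ≫ e.inv.left = (e.hom ≫ e.inv).left from rfl, e.hom_inv_id]
    simp
  · show pullback.snd _ _ ≫ 𝟙 _ = e.hom.left ≫ pv 𝓘 R n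
    rw [Category.comp_id]
    exact (MorphismProperty.Over.w e.hom).symm
  · exact (Category.comp_id _).trans (Category.id_comp _).symm
  · exact (Category.comp_id _).trans (Category.id_comp _).symm

/-- The transition maps of the lifts. -/
def tl (n : ℕ) : (lev 𝓘 R n).left ⟶ (lev 𝓘 R (n + 1)).left := (exists_sq 𝓘 R n).choose

theorem sq (n : ℕ) : IsPullback (tl 𝓘 R n) (pv 𝓘 R n) (pv 𝓘 R (n + 1)) (tv 𝓘 n) :=
  (exists_sq 𝓘 R n).choose_spec

/-- The first lift is the cover itself. -/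
theorem sq0 : IsPullback (pullback.fst R.hom (inv (j0 𝓘))) (pv 𝓘 R 0) R.hom (inv (j0 𝓘)) :=
  IsPullback.of_hasPullback _ _

section inOpen

variable {𝓘} (U : X.Opens)

theorem comap_pow {Y : Scheme.{u}} (f : Y ⟶ X) (n : ℕ) :
    (𝓘 ^ (n + 1)).comap f = (𝓘.comap f) ^ (n + 1) := by
  induction n with
  | zero => simp only [zero_add, pow_one]
  | succ m ih => rw [pow_succ, GrothLib.UnivThick.comap_mul, ih, ← pow_succ]

/-- The thickenings inside the open compared with those of the ambient scheme. -/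
def kap (n : ℕ) : Yn (𝓘.comap U.ι) n ⟶ Yn 𝓘 n :=
  Scheme.IdealSheafData.inclusion (comap_pow (𝓘 := 𝓘) U.ι n).le ≫
    ((𝓘 ^ (n + 1)).comapIso U.ι).hom ≫ pullback.snd _ _

theorem kap_yι (n : ℕ) : kap U n ≫ yι 𝓘 n = yι (𝓘.comap U.ι) n ≫ U.ι := by
  rw [kap, Category.assoc, Category.assoc, ← pullback.condition,
    Scheme.IdealSheafData.comapIso_hom_fst_assoc, Scheme.IdealSheafData.inclusion_subschemeι_assoc]

variable (hU : (𝓘.support : Set X) ⊆ (U : Set X))

include hU in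
theorem isIso_kap (n : ℕ) : IsIso (kap (𝓘 := 𝓘) U n) := by
  haveI := isIso_inclusion (comap_pow (𝓘 := 𝓘) U.ι n)
  haveI : Surjective (pullback.snd U.ι (yι 𝓘 n)) := by
    refine ⟨fun y => ?_⟩
    have h : yι 𝓘 n y ∈ Set.range U.ι := by
      rw [Scheme.Opens.range_ι]
      exact hU (by rw [← range_yι 𝓘 n]; exact ⟨y, rfl⟩)
    show y ∈ Set.range (pullback.snd U.ι (yι 𝓘 n))
    rw [Scheme.Pullback.range_snd]
    exact h
  haveI : IsIso (pullback.snd U.ι (yι 𝓘 n)) := (isIso_iff_isOpenImmersion_and_surjective _).2 ⟨inferInstance, ‹_›⟩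
  rw [kap]
  infer_instance

theorem inc_kap (n : ℕ) : inc (𝓘.comap U.ι) n ≫ kap U (n + 1) = kap U n ≫ tv 𝓘 n := by
  rw [← cancel_mono (yι 𝓘 (n + 1)), Category.assoc, kap_yι, ← Category.assoc, inc_yι, Category.assoc,
    tv_yι, kap_yι]

end inOpen

end GrothLib.EtAlgz21
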