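import Groth.Agent.EtAlgz21.Mult
import Groth.Agent.Lib.FinCov.FrameFree
import Groth.Agent.Lib.Euler.Coh
import Groth.Agent.Lib.QCoh.Qcqs
import Groth.Prelude.Def_RelSpec

/-!
# The quasi-coherent algebra of a multiplication on a finite locally free module
-/

set_option autoImplicit false
set_option backward.isDefEq.respectTransparency false
set_option linter.style.haveILetI false

universe u

open CategoryTheory AlgebraicGeometry TopologicalSpace Opposite

noncomputable section

namespace GrothLib.EtAlgz21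

variable {Z : Scheme.{u}} {E : Z.Modules}

/-- The pairing is perfect near every point and the product satisfies the ring axioms on local frames. -/
structure Forms.Axioms (F : Forms E) : Prop where
  hp : ∀ z : Z, ∃ W : Z.Opens, z ∈ W ∧ F.Perfect W
  exists_frame : ∀ z : Z, ∃ (W : Z.Opens) (n : ℕ) (e : Fin n → Γ(E, W)), z ∈ W ∧ FinCov.IsFrame E W e ∧
    (∀ i j, F.mul hp W (e i) (e j) = F.mul hp W (e j) (e i)) ∧
    (∀ i j k, F.mul hp W (F.mul hp W (e i) (e j)) (e k) = F.mul hp W (e i) (F.mul hp W (e j) (e k))) ∧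
    (∀ i, F.mul hp W (F.one hp W) (e i) = e i)

variable {F : Forms E} (H : F.Axioms)

/-- Sections of the algebra. -/
def Sec (_ : F.Axioms) (V : Z.Opens) : Type u := Γ(E, V)

namespace Sec

instance (V : Z.Opens) : AddCommGroup (Sec H V) := inferInstanceAs (AddCommGroup Γ(E, V))

theorem local_eq {V : Z.Opens} {x y : Γ(E, V)}
    (h : ∀ (W : Z.Opens) (n : ℕ) (e : Fin n → Γ(E, W)) (_ : FinCov.IsFrame E W e)
      (_ : ∀ i j, F.mul H.hp W (e i) (e j) = F.mul H.hp W (e j) (e i))
      (_ : ∀ i j k, F.mul H.hp W (F.mul H.hp W (e i) (e j)) (e k) = F.mul H.hp W (e i) (F.mul H.hp W (e j) (e k)))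
      (_ : ∀ i, F.mul H.hp W (F.one H.hp W) (e i) = e i),
      mres E (inf_le_right : W ⊓ V ≤ V) x = mres E inf_le_right y) : x = y := by
  choose W n e hz he h1 h2 h3 using H.exists_frame
  exact TopCat.Sheaf.eq_of_locally_eq' ⟨E.presheaf, E.isSheaf⟩
    (fun z : V => W z.1 ⊓ V) V (fun z => homOfLE inf_le_right)
    (fun z hzV => Opens.mem_iSup.2 ⟨⟨z, hzV⟩, hz z, hzV⟩) _ _
    fun z => h _ _ _ (he z.1) (h1 z.1) (h2 z.1) (h3 z.1)

theorem mul_comm' {V : Z.Opens} (a b : Γ(E, V)) : F.mul H.hp V a b = F.mul H.hp V b a := by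
  refine local_eq H fun W n e he h1 _ _ => ?_
  let β := he.basis (W ⊓ V) inf_le_left
  rw [F.mres_mul, F.mres_mul]
  have : F.mulₗ H.hp (W ⊓ V) = (F.mulₗ H.hp (W ⊓ V)).flip := β.ext fun i => β.ext fun j => by
    show F.mul H.hp _ (β i) (β j) = F.mul H.hp _ (β j) (β i)
    rw [he.basis_apply, he.basis_apply]
    exact ((F.mres_mul H.hp inf_le_left _ _).symm.trans (congrArg _ (h1 i j))).trans (F.mres_mul H.hp _ _ _)
  exact LinearMap.congr_fun (LinearMap.congr_fun this _) _

theorem mul_assoc' {V : Z.Opens} (a b c : Γ(E, V)) :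
    F.mul H.hp V (F.mul H.hp V a b) c = F.mul H.hp V a (F.mul H.hp V b c) := by
  refine local_eq H fun W n e he _ h2 _ => ?_
  let β := he.basis (W ⊓ V) inf_le_left
  let μ := F.mulₗ H.hp (W ⊓ V)
  rw [F.mres_mul, F.mres_mul, F.mres_mul, F.mres_mul]
  generalize mres E _ a = a', mres E _ b = b', mres E _ c = c'
  suffices h : μ.compr₂ μ = (LinearMap.llcomp Γ(Z, W ⊓ V) Γ(E, W ⊓ V) Γ(E, W ⊓ V) Γ(E, W ⊓ V)).compl₁₂ μ μ from
    LinearMap.congr_fun (LinearMap.congr_fun (LinearMap.congr_fun h a') b') c'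
  refine β.ext fun i => β.ext fun j => β.ext fun k => ?_
  show F.mul H.hp _ (F.mul H.hp _ (β i) (β j)) (β k) = F.mul H.hp _ (β i) (F.mul H.hp _ (β j) (β k))
  rw [he.basis_apply, he.basis_apply, he.basis_apply]
  have := congrArg (mres E (inf_le_left : W ⊓ V ≤ W)) (h2 i j k)
  rwa [F.mres_mul, F.mres_mul, F.mres_mul, F.mres_mul] at this

theorem one_mul' {V : Z.Opens} (a : Γ(E, V)) : F.mul H.hp V (F.one H.hp V) a = a := by
  refine local_eq H fun W n e he _ _ h3 => ?_
  let β := he.basis (W ⊓ V) inf_le_left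
  rw [F.mres_mul, F.mres_one]
  suffices h : F.mulₗ H.hp (W ⊓ V) (F.one H.hp (W ⊓ V)) = LinearMap.id from LinearMap.congr_fun h _
  refine β.ext fun i => ?_
  show F.mul H.hp _ _ (β i) = β i
  rw [he.basis_apply]
  have := congrArg (mres E (inf_le_left : W ⊓ V ≤ W)) (h3 i)
  rwa [F.mres_mul, F.mres_one] at this

variable {V : Z.Opens}

instance : Mul (Sec H V) := ⟨fun a b => F.mul H.hp V a b⟩
instance : One (Sec H V) := ⟨F.one H.hp V⟩

instance : CommRing (Sec H V) where
  __ := (inferInstance : AddCommGroup (Sec H V))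
  left_distrib a b c := map_add (F.mulₗ H.hp V a) b c
  right_distrib a b c := F.mulₗ H.hp V |>.map_add₂ a b c
  zero_mul a := F.mulₗ H.hp V |>.map_zero₂ a
  mul_zero a := map_zero (F.mulₗ H.hp V a)
  one_mul a := one_mul' H a
  mul_one a := (mul_comm' H _ _).trans (one_mul' H a)
  mul_comm a b := mul_comm' H a b
  mul_assoc a b c := mul_assoc' H a b c

/-- Restriction. -/
def res {W : Z.Opens} (h : W ≤ V) : Sec H V →+* Sec H W where
  toFun := mres E h
  map_zero' := map_zero _
  map_add' := map_add _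
  map_one' := F.mres_one H.hp h
  map_mul' := F.mres_mul H.hp h

/-- The structure map. -/
def str : Γ(Z, V) →+* Sec H V where
  toFun r := (r • F.one H.hp V : Γ(E, V))
  map_zero' := zero_smul Γ(Z, V) (F.one H.hp V)
  map_add' r s := add_smul r s (F.one H.hp V)
  map_one' := one_smul Γ(Z, V) (F.one H.hp V)
  map_mul' r s := by
    show (r * s) • F.one H.hp V = F.mulₗ H.hp V (r • F.one H.hp V) (s • F.one H.hp V)
    rw [LinearMap.map_smul₂, map_smul, smul_smul]
    exact congrArg ((r * s) • ·) (one_mul' H (F.one H.hp V)).symm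

theorem str_mul (r : Γ(Z, V)) (a : Sec H V) : str H r * a = (r • (show Γ(E, V) from a) : Γ(E, V)) := by
  show F.mulₗ H.hp V (r • F.one H.hp V) a = _
  rw [LinearMap.map_smul₂]
  exact congrArg (r • ·) (one_mul' H a)

theorem res_str {W : Z.Opens} (h : W ≤ V) (r : Γ(Z, V)) : res H h (str H r) = str H (ores h r) :=
  (mres_smul E h r _).trans (congrArg (ores h r • ·) (F.mres_one H.hp h))

end Sec

/-- The presheaf of rings. -/
def algPresheaf : TopCat.Presheaf CommRingCat.{u} Z.carrier where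
  obj V := CommRingCat.of (Sec H V.unop)
  map i := CommRingCat.ofHom (Sec.res H i.unop.le)
  map_id V := CommRingCat.hom_ext (RingHom.ext fun p => mres_self E _ p)
  map_comp i j := CommRingCat.hom_ext (RingHom.ext fun p => (mres_mres E i.unop.le j.unop.le p).symm)

theorem algPresheaf_isSheaf : (algPresheaf H).IsSheaf := by
  refine (TopCat.Presheaf.isSheaf_iff_isSheafUniqueGluing _).mpr fun ι U sf hsf => ?_
  exact TopCat.Sheaf.existsUnique_gluing ⟨E.presheaf, E.isSheaf⟩ U sf fun i j => hsf i j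

/-- The structure map of the presheaf of rings. -/
def algStr : Z.presheaf ⟶ algPresheaf H where
  app V := CommRingCat.ofHom (Sec.str H (V := V.unop))
  naturality V W i := CommRingCat.hom_ext (RingHom.ext fun r => (Sec.res_str H i.unop.le r).symm)

theorem algPresheaf_isQC [E.IsQuasicoherent] : RelSpec.IsQC (algPresheaf H) (algStr H) := by
  intro U hU r
  obtain ⟨hlift, hsep⟩ := QCoh.smulLift_and_smulSep_of_isAffineOpen hU E r
  let V := Z.basicOpen r
  let h : V ≤ U := Z.basicOpen_le r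
  letI : Algebra (Sec H U) (Sec H V) := (Sec.res H h).toAlgebra
  show IsLocalization.Away (Sec.str H r) (Sec H V)
  refine (isLocalization_iff _ _).mpr ⟨?_, ?_, ?_⟩
  · rintro ⟨_, n, rfl⟩
    show IsUnit (Sec.res H h _)
    rw [map_pow, Sec.res_str]
    exact ((Z.toRingedSpace.isUnit_res_basicOpen r).map (Sec.str H)).pow n
  · intro z
    obtain ⟨n, t, ht⟩ := hlift z
    refine ⟨(t, ⟨_, n, rfl⟩), ?_⟩
    show z * Sec.res H h (Sec.str H r ^ n) = Sec.res H h t
    rw [map_pow, Sec.res_str, ← map_pow, mul_comm, Sec.str_mul]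
    exact ht.symm
  · intro p q hpq
    change mres E h p = mres E h q at hpq
    obtain ⟨n, hn⟩ := hsep ((show Γ(E, U) from p) - (show Γ(E, U) from q)) (by rw [map_sub, sub_eq_zero]; exact hpq)
    refine ⟨⟨_, n, rfl⟩, ?_⟩
    show Sec.str H r ^ n * p = Sec.str H r ^ n * q
    rw [← map_pow, Sec.str_mul, Sec.str_mul, ← sub_eq_zero]
    exact (smul_sub (r ^ n) (show Γ(E, U) from p) (show Γ(E, U) from q)).symm.trans hn

/-- The algebra. -/
def alg [E.IsQuasicoherent] : RelSpec.QCAlg Z where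
  presheaf := algPresheaf H
  isSheaf := algPresheaf_isSheaf H
  str := algStr H
  isQC := algPresheaf_isQC H

end GrothLib.EtAlgz21
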