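import Groth.Agent.Lib.AffBC.Basic
import Groth.Agent.Lib.GrBC.Basic
import Groth.Agent.Lib.ParaLocal.Fwd
import Groth.Prelude.Def_Omega4

/-!
# Pulled back sections along composites
-/

set_option autoImplicit false
set_option backward.isDefEq.respectTransparency false

universe u

open CategoryTheory CategoryTheory.Limits AlgebraicGeometry TopologicalSpace Opposite

noncomputable section

namespace GrothLib.EtAlgz21

variable {X Y Z : Scheme.{u}}

theorem map_map_M {M : X.Modules} {A B C : X.Opens} (h₁ : B ≤ A) (h₂ : C ≤ B) (x : Γ(M, A)) :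
    M.presheaf.map (homOfLE h₂).op (M.presheaf.map (homOfLE h₁).op x) =
      M.presheaf.map (homOfLE (h₂.trans h₁)).op x := by
  rw [← ConcreteCategory.comp_apply, ← Functor.map_comp]
  rfl

theorem pullSec_eq (f : X ⟶ Y) (M : Y.Modules) {U : Y.Opens} {P : X.Opens} (e : P ≤ f ⁻¹ᵁ U) (s : Γ(M, U)) :
    QCoh.pullSec f M e s =
      ((Scheme.Modules.pullback f).obj M).presheaf.map (homOfLE e).op (OmegaSh.pullSect f M U s) := rfl

theorem pullSec_res (f : X ⟶ Y) (M : Y.Modules) {U V : Y.Opens} {P Q : X.Opens} (h : V ≤ U) (e : P ≤ f ⁻¹ᵁ U)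
    (hQ : Q ≤ P) (e' : Q ≤ f ⁻¹ᵁ V) (s : Γ(M, U)) :
    QCoh.pullSec f M e' (M.presheaf.map (homOfLE h).op s) =
      ((Scheme.Modules.pullback f).obj M).presheaf.map (homOfLE hQ).op (QCoh.pullSec f M e s) := by
  rw [pullSec_eq, pullSec_eq, OmegaSh.pullSect_map, map_map_M, map_map_M]

/-- Pulled back sections along a composite. -/
theorem pullbackComp_congr_pullSec (f : X ⟶ Y) (g : Y ⟶ Z) {h : X ⟶ Z} (hfg : f ≫ g = h) (M : Z.Modules)
    {V : Z.Opens} {Q : Y.Opens} {P : X.Opens} (e1 : Q ≤ g ⁻¹ᵁ V) (e2 : P ≤ f ⁻¹ᵁ Q) (e : P ≤ h ⁻¹ᵁ V)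
    (s : Γ(M, V)) :
    ((Scheme.Modules.pullbackCongr hfg).hom.app M).app P
      (((Scheme.Modules.pullbackComp f g).hom.app M).app P
        (QCoh.pullSec f _ e2 (QCoh.pullSec g M e1 s))) = QCoh.pullSec h M e s := by
  subst hfg
  let N := (Scheme.Modules.pullback f).obj ((Scheme.Modules.pullback g).obj M)
  have h1 : QCoh.pullSec f _ e2 (QCoh.pullSec g M e1 s) =
      N.presheaf.map (homOfLE e).op
        (OmegaSh.pullSect f _ (g ⁻¹ᵁ V) (OmegaSh.pullSect g M V s)) := by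
    rw [pullSec_eq, pullSec_eq, OmegaSh.pullSect_map, map_map_M]
    rfl
  rw [h1]
  show ((Scheme.Modules.pullbackComp f g).hom.app M).app P (N.presheaf.map (homOfLE e).op _) = _
  refine (QCoh.map_app ((Scheme.Modules.pullbackComp f g).hom.app M) (homOfLE e) _).symm.trans ?_
  rw [pullSec_eq]
  exact congrArg _ (GrBC.pullbackComp_hom_pullSect f g M V s)

theorem pullUnit_pullSec (f : X ⟶ Y) {U : Y.Opens} {P : X.Opens} (e : P ≤ f ⁻¹ᵁ U)
    (r : Γ(Coh.structureModule Y, U)) :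
    (ParaLocal.pullUnit f).hom.app P (QCoh.pullSec f (Coh.structureModule Y) e r) =
      f.appLE U P e r := by
  rw [pullSec_eq]
  refine (QCoh.map_app (ParaLocal.pullUnit f).hom (homOfLE e) _).symm.trans ?_
  rw [GrBC.pullUnit_pullSect]
  rfl

end GrothLib.EtAlgz21
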