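import Groth.Agent.EtAlgz21.Levels
import Groth.Agent.EtAlgz21.Sections
import Groth.Agent.Lib.LefEt7.Tau
import Groth.Agent.Lib.QCoh.Qcqs
import Groth.Prelude.Def_LefX

/-!
# The formal system of covers with the bundle of its functions
-/

set_option autoImplicit false
set_option backward.isDefEq.respectTransparency false
set_option linter.style.haveILetI false

universe u

open CategoryTheory CategoryTheory.Limits AlgebraicGeometry TopologicalSpace Opposite TensorProduct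

noncomputable section

namespace GrothLib.EtAlgz21

variable {X : Scheme.{u}} (𝓘 : X.IdealSheafData) (R : FEt.Cat 𝓘.subscheme)

instance (n : ℕ) : IsAffineHom (pv 𝓘 R n) := inferInstance

theorem isQC_structure (Y : Scheme.{u}) : (Coh.structureModule Y).IsQuasicoherent :=
  WeakAss.isQuasicoherent_structureModule

/-- The transition isomorphisms of the functions of the lifts. -/
def eLift (n : ℕ) :
    (Scheme.Modules.pullback (tv 𝓘 n)).obj (LefEt7.push (pv 𝓘 R (n + 1))) ≅ LefEt7.push (pv 𝓘 R n) :=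
  haveI := isQC_structure (lev 𝓘 R (n + 1)).left
  haveI := AffBC.isIso_bcMap (sq 𝓘 R n) (Coh.structureModule (lev 𝓘 R (n + 1)).left)
  asIso (AffBC.bcMap (sq 𝓘 R n) (Coh.structureModule (lev 𝓘 R (n + 1)).left)) ≪≫
    (Scheme.Modules.pushforward (pv 𝓘 R n)).mapIso (ParaLocal.pullUnit (tl 𝓘 R n))

/-- The system of the modules of functions of the lifts. -/
def sys : FSch.ModSys (FSch.completionAlong X 𝓘) where
  F n := LefEt7.push (pv 𝓘 R n)
  e n := eLift 𝓘 R n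

theorem sys_finLocFree : LefX.LevelwiseFinLocFree (sys 𝓘 R) := fun n => LefEt7.isFinLocFree_push (pv 𝓘 R n)

theorem eLift_pullSec (n : ℕ) {V : (Yn 𝓘 (n + 1)).Opens} {W : (Yn 𝓘 n).Opens} (e : W ≤ tv 𝓘 n ⁻¹ᵁ V)
    (s : Γ((lev 𝓘 R (n + 1)).left, pv 𝓘 R (n + 1) ⁻¹ᵁ V)) :
    (eLift 𝓘 R n).hom.app W (QCoh.pullSec (tv 𝓘 n) (LefEt7.push (pv 𝓘 R (n + 1))) e s) =
      (tl 𝓘 R n).appLE _ _ (AffBC.preimage_le (sq 𝓘 R n) e) s := by
  show (ParaLocal.pullUnit (tl 𝓘 R n)).hom.app (pv 𝓘 R n ⁻¹ᵁ W)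
    ((AffBC.bcMap (sq 𝓘 R n) (Coh.structureModule (lev 𝓘 R (n + 1)).left)).app W _) = _
  rw [AffBC.bcMap_pullSec]
  exact pullUnit_pullSec _ _ _

section
attribute [local irreducible] Scheme.Modules.pullback Scheme.Modules.pullbackComp Scheme.Modules.pullbackCongr

/-- The transition isomorphisms of a completion. -/
theorem completion_e (F : X.Modules) (n : ℕ) : (FSch.completionMod 𝓘 F).e n =
    (Scheme.Modules.pullbackComp (tv 𝓘 n) (yι 𝓘 (n + 1))).app F ≪≫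
    (Scheme.Modules.pullbackCongr (tv_yι 𝓘 n)).app F := by
  exact rfl

end

theorem app_pullSec_of_comm {Z Z' Y : Scheme.{u}} {i : Z ⟶ Z'} {e' : Z' ⟶ Y} {e : Z ⟶ Y} (he : i ≫ e' = e)
    {M : Y.Modules} {F' : Z'.Modules} {F : Z.Modules}
    (α' : (Scheme.Modules.pullback e').obj M ⟶ F') (α : (Scheme.Modules.pullback e).obj M ⟶ F)
    (ψ : (Scheme.Modules.pullback i).obj F' ≅ F)
    (eM : (Scheme.Modules.pullback i).obj ((Scheme.Modules.pullback e').obj M) ≅ (Scheme.Modules.pullback e).obj M)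
    (hM : eM = (Scheme.Modules.pullbackComp i e').app M ≪≫ (Scheme.Modules.pullbackCongr he).app M)
    (hc : (Scheme.Modules.pullback i).map α' ≫ ψ.hom = eM.hom ≫ α) {V : Y.Opens} (x : Γ(M, V))
    (hV : e ⁻¹ᵁ V ≤ i ⁻¹ᵁ (e' ⁻¹ᵁ V)) :
    ψ.hom.app (e ⁻¹ᵁ V) (QCoh.pullSec i F' hV
      (α'.app (e' ⁻¹ᵁ V) (QCoh.pullSec e' M le_rfl x))) =
      α.app (e ⁻¹ᵁ V) (QCoh.pullSec e M le_rfl x) := by
  subst hM
  let a := QCoh.pullSec e' M (le_refl (e' ⁻¹ᵁ V)) x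
  let b := QCoh.pullSec i ((Scheme.Modules.pullback e').obj M) hV a
  have h1 := QCoh.pullSec_natural i α' hV a
  refine (congrArg (ψ.hom.app (e ⁻¹ᵁ V)) h1).symm.trans ?_
  exact (congr(($hc).app (e ⁻¹ᵁ V) b)).trans
    (congrArg (α.app (e ⁻¹ᵁ V)) (pullbackComp_congr_pullSec i e' he M le_rfl hV le_rfl x))

/-- Sections of the compatibility of a morphism out of a completion. -/
theorem completion_app {𝔐 : FSch.ModSys (FSch.completionAlong X 𝓘)} {F : X.Modules}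
    (φ : FSch.ModSys.Hom (FSch.completionMod 𝓘 F) 𝔐) (n : ℕ) {V : X.Opens} (x : Γ(F, V))
    (hV : yι 𝓘 n ⁻¹ᵁ V ≤ tv 𝓘 n ⁻¹ᵁ (yι 𝓘 (n + 1) ⁻¹ᵁ V)) :
    (𝔐.e n).hom.app (yι 𝓘 n ⁻¹ᵁ V) (QCoh.pullSec (tv 𝓘 n) (𝔐.F (n + 1)) hV
      ((φ.app (n + 1)).app (yι 𝓘 (n + 1) ⁻¹ᵁ V) (QCoh.pullSec (yι 𝓘 (n + 1)) F le_rfl x))) =
      (φ.app n).app (yι 𝓘 n ⁻¹ᵁ V) (QCoh.pullSec (yι 𝓘 n) F le_rfl x) :=
  app_pullSec_of_comm (tv_yι 𝓘 n) (φ.app (n + 1)) (φ.app n) (𝔐.e n) ((FSch.completionMod 𝓘 F).e n)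
    (completion_e 𝓘 F n) (φ.comm n) x hV

section bundle

variable {𝓘 R} {U : X.Opens} {E : (U : Scheme.{u}).Modules}
  (θ : FSch.completionMod 𝓘 ((Scheme.Modules.pushforward U.ι).obj E) ≅ sys 𝓘 R)

/-- The push forward of the bundle. -/
abbrev pE (E : (U : Scheme.{u}).Modules) : X.Modules := (Scheme.Modules.pushforward U.ι).obj E

/-- The comparison at a level. -/
abbrev thApp (n : ℕ) : (Scheme.Modules.pullback (yι 𝓘 n)).obj (pE E) ⟶ LefEt7.push (pv 𝓘 R n) :=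
  (θ.hom : FSch.ModSys.Hom _ _).app n

theorem bijective_thApp (n : ℕ) (P : (Yn 𝓘 n).Opens) : Function.Bijective ((thApp θ n).app P) := by
  let g := (θ.inv : FSch.ModSys.Hom _ _).app n
  have h1 : thApp θ n ≫ g = 𝟙 _ := congrArg (fun φ : FSch.ModSys.Hom _ _ => φ.app n) θ.hom_inv_id
  have h2 : g ≫ thApp θ n = 𝟙 _ := congrArg (fun φ : FSch.ModSys.Hom _ _ => φ.app n) θ.inv_hom_id
  exact Function.bijective_iff_has_inverse.2 ⟨g.app P,
    fun x => congr(($h1).app P x), fun x => congr(($h2).app P x)⟩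

/-- Sections of the bundle as functions on a lift. -/
def epsX (n : ℕ) (V : X.Opens) :
    Γ(pE E, V) →+ Γ((lev 𝓘 R n).left, pv 𝓘 R n ⁻¹ᵁ (yι 𝓘 n ⁻¹ᵁ V)) :=
  ((thApp θ n).app (yι 𝓘 n ⁻¹ᵁ V)).hom.comp (QCoh.pullSec (yι 𝓘 n) (pE E) le_rfl)

theorem epsX_apply (n : ℕ) (V : X.Opens) (x : Γ(pE E, V)) :
    epsX θ n V x = (thApp θ n).app (yι 𝓘 n ⁻¹ᵁ V) (QCoh.pullSec (yι 𝓘 n) (pE E) le_rfl x) := rfl

theorem epsX_smul (n : ℕ) (V : X.Opens) (r : Γ(X, V)) (x : Γ(pE E, V)) :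
    epsX θ n V (r • x) = (pv 𝓘 R n).app _ ((yι 𝓘 n).app V r) * epsX θ n V x := by
  rw [epsX_apply, epsX_apply, QCoh.pullSec_smul, ← Scheme.Hom.app_eq_appLE]
  exact Scheme.Modules.Hom.app_smul (thApp θ n) ((yι 𝓘 n).app V r) _

theorem epsX_res (n : ℕ) {V W : X.Opens} (h : V ≤ W) (x : Γ(pE E, W)) :
    epsX θ n V ((pE E).presheaf.map (homOfLE h).op x) =
      (lev 𝓘 R n).left.presheaf.map (homOfLE ((pv 𝓘 R n).preimage_mono ((yι 𝓘 n).preimage_mono h))).op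
        (epsX θ n W x) := by
  rw [epsX_apply, epsX_apply, pullSec_res (yι 𝓘 n) (pE E) h le_rfl ((yι 𝓘 n).preimage_mono h) le_rfl]
  exact (QCoh.map_app (thApp θ n) (homOfLE ((yι 𝓘 n).preimage_mono h)) _).symm

theorem preimage_yι_le (n : ℕ) (V : X.Opens) :
    yι 𝓘 n ⁻¹ᵁ V ≤ tv 𝓘 n ⁻¹ᵁ (yι 𝓘 (n + 1) ⁻¹ᵁ V) := by
  rw [← Scheme.Hom.comp_preimage, tv_yι]

theorem epsX_compat (n : ℕ) (V : X.Opens) (x : Γ(pE E, V)) :
    (tl 𝓘 R n).appLE _ _ (AffBC.preimage_le (sq 𝓘 R n) (preimage_yι_le n V)) (epsX θ (n + 1) V x) =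
      epsX θ n V x :=
  (eLift_pullSec 𝓘 R n (preimage_yι_le (𝓘 := 𝓘) n V) (epsX θ (n + 1) V x)).symm.trans
    (completion_app 𝓘 (θ.hom : FSch.ModSys.Hom _ _) n x (preimage_yι_le (𝓘 := 𝓘) n V))

theorem smul_pE (V : X.Opens) (r : Γ(X, V)) (x : Γ(pE E, V)) :
    r • x = (show Γ(pE E, V) from (U.ι.app V r) • (show Γ(E, U.ι ⁻¹ᵁ V) from x)) := rfl

set_option maxHeartbeats 2000000 in
include θ in
theorem basisX [IsLocallyNoetherian X] (hE : FlatMod.IsFinLocFree E) (n : ℕ) {W : X.Opens}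
    (hW : IsAffineOpen W) (hWU : W ≤ U) {m : ℕ} {e : Fin m → Γ(E, U.ι ⁻¹ᵁ W)}
    (he : FinCov.IsFrame E (U.ι ⁻¹ᵁ W) e) :
    Function.Bijective fun c : Fin m → Γ(Yn 𝓘 n, yι 𝓘 n ⁻¹ᵁ W) =>
      ∑ i, (pv 𝓘 R n).app _ (c i) * epsX θ n W (show Γ(pE E, W) from e i) := by
  classical
  haveI : E.IsQuasicoherent := (Euler.isCoh_of_isFinLocFree hE).1
  haveI : (pE E).IsQuasicoherent := QCoh.isQuasicoherent_pushforward U.ι E
  haveI : IsIso (U.ι.app W) := Scheme.Hom.isIso_app U.ι W (by rw [Scheme.Opens.opensRange_ι]; exact hWU)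
  let σ : Γ(X, W) ≃+* Γ(U.toScheme, U.ι ⁻¹ᵁ W) := RingEquiv.ofBijective (U.ι.app W).hom
    (ConcreteCategory.bijective_of_isIso (U.ι.app W))
  let b' := he.basis (U.ι ⁻¹ᵁ W) le_rfl
  let L : (Fin m → Γ(X, W)) →ₗ[Γ(X, W)] Γ(pE E, W) :=
    { toFun := fun c => ∑ i, c i • (show Γ(pE E, W) from e i)
      map_add' := fun c d => by simp [add_smul, Finset.sum_add_distrib]
      map_smul' := fun r c => by simp [Finset.smul_sum, smul_smul] }
  have hL : Function.Bijective L := by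
    have h1 : (L : (Fin m → Γ(X, W)) → Γ(pE E, W)) =
        (fun c : Fin m → Γ(U.toScheme, U.ι ⁻¹ᵁ W) => ∑ i, c i • E.presheaf.map (homOfLE (le_refl (U.ι ⁻¹ᵁ W))).op (e i)) ∘
          (Equiv.piCongrRight fun _ : Fin m => σ.toEquiv) := by
      funext c
      show (∑ i, c i • (show Γ(pE E, W) from e i)) = _
      refine Finset.sum_congr rfl fun i _ => ?_
      rw [smul_pE, show (homOfLE (le_refl (U.ι ⁻¹ᵁ W))).op = 𝟙 _ from rfl, CategoryTheory.Functor.map_id]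
      rfl
    rw [h1]
    exact (he _ le_rfl).comp (Equiv.bijective _)
  let b : Module.Basis (Fin m) Γ(X, W) Γ(pE E, W) :=
    Module.Basis.ofEquivFun (LinearEquiv.ofBijective L hL).symm
  have hb : ∀ i, b i = (show Γ(pE E, W) from e i) := fun i => by
    simp only [b, Module.Basis.coe_ofEquivFun]
    show L (Pi.single i 1) = _
    show (∑ x, (Pi.single i (1 : Γ(X, W)) : Fin m → Γ(X, W)) x • (show Γ(pE E, W) from e x)) = _
    rw [Finset.sum_eq_single i (fun j _ h => by rw [Pi.single_eq_of_ne h]; exact zero_smul _ _)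
      (fun h => absurd (Finset.mem_univ i) h), Pi.single_eq_same]
    exact one_smul _ _
  let P := yι 𝓘 n ⁻¹ᵁ W
  letI := ((yι 𝓘 n).appLE W P le_rfl).hom.toAlgebra
  have hs := QCoh.bijective_sectionsMap (yι 𝓘 n) (pE E) (le_refl P) rfl hW (hW.preimage (yι 𝓘 n))
  let B := Algebra.TensorProduct.basis Γ(Yn 𝓘 n, P) b
  have hc := ((bijective_thApp θ n P).comp hs).comp B.equivFun.symm.bijective
  suffices h : (fun c : Fin m → Γ(Yn 𝓘 n, yι 𝓘 n ⁻¹ᵁ W) =>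
      ∑ i, (pv 𝓘 R n).app _ (c i) * epsX θ n W (show Γ(pE E, W) from e i)) = fun c =>
      (thApp θ n).app P (QCoh.sectionsMap (yι 𝓘 n) (pE E) (le_refl P) rfl (B.equivFun.symm c)) by
    rw [h]; exact hc
  funext c
  show _ = (thApp θ n).app P (QCoh.sectionsMap (yι 𝓘 n) (pE E) (le_refl P) rfl (B.equivFun.symm c))
  rw [Module.Basis.equivFun_symm_apply, map_sum, map_sum]
  refine Finset.sum_congr rfl fun i _ => ?_
  rw [Algebra.TensorProduct.basis_apply, TensorProduct.smul_tmul', QCoh.sectionsMap_tmul, smul_eq_mul, mul_one,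
    hb i]
  exact (Scheme.Modules.Hom.app_smul (thApp θ n) (c i) _).symm

end bundle

end GrothLib.EtAlgz21
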