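import Groth.Agent.EtAlgz21.Formal
import Groth.Agent.Lib.FinCov.Bilinear
import Groth.Agent.Lib.ModelK.Exists
import Groth.Agent.Lib.QCoh.Qcqs

/-!
# The forms of a formal system of covers, algebraised
-/

set_option autoImplicit false
set_option backward.isDefEq.respectTransparency false
set_option linter.style.haveILetI false

universe u

open CategoryTheory CategoryTheory.Limits AlgebraicGeometry TopologicalSpace Opposite TensorProduct

noncomputable section

namespace GrothLib.EtAlgz21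

variable {Z : Scheme.{u}}

theorem tensor_hom_ext {M N P : Z.Modules} {φ ψ : CohB1.tensorMod M N ⟶ P}
    (h : ∀ (U : Z.Opens) (m : Γ(M, U)) (n : Γ(N, U)),
      φ.app U (SecTwist.tmul M N U m n) = ψ.app U (SecTwist.tmul M N U m n)) : φ = ψ := by
  refine ((PresheafOfModules.sheafificationAdjunction (𝟙 Z.ringCatSheaf.obj)).homEquiv _ _).injective ?_
  rw [Adjunction.homEquiv_unit, Adjunction.homEquiv_unit]
  refine PresheafOfModules.Hom.ext (funext fun U => ?_)
  exact ModuleCat.MonoidalCategory.tensor_ext (fun m n => h U.unop m n)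

theorem tmul_add_left {M N : Z.Modules} (U : Z.Opens) (a a' : Γ(M, U)) (c : Γ(N, U)) :
    (SecTwist.tmul M N U (a + a') c : Γ(CohB1.tensorMod M N, U)) =
      SecTwist.tmul M N U a c + SecTwist.tmul M N U a' c := by
  show ((SecTwist.toTensor M N).app (op U)).hom _ = _
  erw [TensorProduct.add_tmul, map_add]
  rfl

theorem tmul_add_right {M N : Z.Modules} (U : Z.Opens) (a : Γ(M, U)) (c c' : Γ(N, U)) :
    (SecTwist.tmul M N U a (c + c') : Γ(CohB1.tensorMod M N, U)) =
      SecTwist.tmul M N U a c + SecTwist.tmul M N U a c' := by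
  show ((SecTwist.toTensor M N).app (op U)).hom _ = _
  erw [TensorProduct.tmul_add, map_add]
  rfl

theorem tensor_smul {M N : Z.Modules} (U : Z.Opens) (r : Γ(Z, U)) (t : (CohB1.tensorPre M N).obj (op U)) :
    ((SecTwist.toTensor M N).app (op U)).hom
        ((show (Z.sheaf.obj ⋙ forget₂ CommRingCat RingCat).obj (op U) from r) • t) =
      r • (show Γ(CohB1.tensorMod M N, U) from ((SecTwist.toTensor M N).app (op U)).hom t) :=
  LinearMap.map_smul _ _ _

theorem tmul_smul_left {M N : Z.Modules} (U : Z.Opens) (r : Γ(Z, U)) (a : Γ(M, U)) (c : Γ(N, U)) :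
    (SecTwist.tmul M N U (r • a) c : Γ(CohB1.tensorMod M N, U)) =
      r • (SecTwist.tmul M N U a c : Γ(CohB1.tensorMod M N, U)) :=
  tensor_smul U r (a ⊗ₜ[Γ(Z, U)] c)

theorem tmul_smul_right {M N : Z.Modules} (U : Z.Opens) (r : Γ(Z, U)) (a : Γ(M, U)) (c : Γ(N, U)) :
    (SecTwist.tmul M N U a (r • c) : Γ(CohB1.tensorMod M N, U)) =
      r • (SecTwist.tmul M N U a c : Γ(CohB1.tensorMod M N, U)) := by
  rw [← tmul_smul_left U r a c]
  have h : a ⊗ₜ[Γ(Z, U)] (r • c) = (r • a) ⊗ₜ[Γ(Z, U)] c :=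
    (TensorProduct.tmul_smul r a c).trans (TensorProduct.smul_tmul' r a c)
  exact congrArg (fun t : Γ(M, U) ⊗[Γ(Z, U)] Γ(N, U) =>
    (show Γ(CohB1.tensorMod M N, U) from ((SecTwist.toTensor M N).app (op U)).hom t)) h

theorem quotMap_app_gen {I J : Z.IdealSheafData} (h : I ≤ J) (V : Z.Opens)
    (x : Γ(I.subscheme, I.subschemeι ⁻¹ᵁ V))
    (e : J.subschemeι ⁻¹ᵁ V ≤ Scheme.IdealSheafData.inclusion h ⁻¹ᵁ (I.subschemeι ⁻¹ᵁ V)) :
    (Lef.quotMap h).app V x = (Scheme.IdealSheafData.inclusion h).appLE _ _ e x := by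
  have h1 : (Lef.quotMap h).app V x =
      J.subscheme.presheaf.map (eqToHom (congrArg (fun f => f ⁻¹ᵁ V)
        (Scheme.IdealSheafData.inclusion_subschemeι h).symm)).op
        ((Scheme.IdealSheafData.inclusion h).app (I.subschemeι ⁻¹ᵁ V) x) := rfl
  rw [h1, Scheme.Hom.appLE, CommRingCat.comp_apply]
  exact congrArg (fun i => J.subscheme.presheaf.map i _) (Subsingleton.elim _ _)

theorem quotMap_app (𝓙 : Z.IdealSheafData) (n : ℕ) (V : Z.Opens)
    (x : Γ(Yn 𝓙 (n + 1), yι 𝓙 (n + 1) ⁻¹ᵁ V))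
    (e : yι 𝓙 n ⁻¹ᵁ V ≤ inc 𝓙 n ⁻¹ᵁ (yι 𝓙 (n + 1) ⁻¹ᵁ V)) :
    (Lef.quotMap (Lef.pow_succ_le 𝓙 n)).app V x = (inc 𝓙 n).appLE _ _ e x :=
  quotMap_app_gen _ V x e

namespace FormalAlg

variable {𝓙 : Z.IdealSheafData} {E : Z.Modules} (D : FormalAlg 𝓙 E)

/-- The module of functions of the level `n`. -/
abbrev M (n : ℕ) : Z.Modules := (Scheme.Modules.pushforward (yι 𝓙 n)).obj (LefEt7.push (D.p n))

/-- The trace morphism of the level `n`. -/
def tauHom (n : ℕ) : D.M n ⟶ ClSub.quotMod (𝓙 ^ (n + 1)) :=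
  (Scheme.Modules.pushforward (yι 𝓙 n)).map
    (FinCov.traceHom (LefEt7.dimg (D.p n)) (LefEt7.isFinLocFree_dimg (D.p n)))

theorem tauHom_app (n : ℕ) (V : Z.Opens) (x : D.C n V) : (D.tauHom n).app V x = D.tau n V x := rfl

theorem tC_res (n : ℕ) {V W : Z.Opens} (h : V ≤ W) (x : D.C (n + 1) W) :
    D.tC n V (LefEt7.resU (D.p (n + 1)) ((yι 𝓙 (n + 1)).preimage_mono h) x) =
      LefEt7.resU (D.p n) ((yι 𝓙 n).preimage_mono h) (D.tC n W x) := by
  have h1 : (D.R (n + 1)).presheaf.map (homOfLE ((D.p (n + 1)).preimage_mono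
        ((yι 𝓙 (n + 1)).preimage_mono h))).op ≫ (D.t n).appLE _ _ (D.le_t n V) =
      (D.t n).appLE _ _ (D.le_t n W) ≫
        (D.R n).presheaf.map (homOfLE ((D.p n).preimage_mono ((yι 𝓙 n).preimage_mono h))).op := by
    rw [Scheme.Hom.map_appLE, Scheme.Hom.appLE_map]
  exact congr($h1 x)

/-- The transition morphism of the modules of functions. -/
def tMap (n : ℕ) : D.M (n + 1) ⟶ D.M n :=
  ⟨PresheafOfModules.homMk
    { app := fun V => AddCommGrpCat.ofHom ((D.tC n V.unop).toAddMonoidHom : D.C (n + 1) V.unop →+ D.C n V.unop)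
      naturality := fun V W i => by
        ext x
        exact D.tC_res n i.unop.le x }
    fun V r x => by
      show D.tC n V.unop ((D.p (n + 1)).app _ (red (n + 1) V.unop r) * (show D.C (n + 1) V.unop from x)) =
        (D.p n).app _ (red n V.unop r) * D.tC n V.unop x
      rw [map_mul, D.tC_app, tY_red]⟩

theorem tMap_app (n : ℕ) (V : Z.Opens) (x : D.C (n + 1) V) : (D.tMap n).app V x = D.tC n V x := rfl

/-- The functions morphism. -/
def epsHom (n : ℕ) : E ⟶ D.M n :=
  ⟨PresheafOfModules.homMk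
    { app := fun V => AddCommGrpCat.ofHom (D.eps n V.unop)
      naturality := fun V W i => by
        ext x
        exact D.eps_res n i.unop.le x }
    fun V r x => D.eps_smul n V.unop r x⟩

/-- The product pairing. -/
def mulPairing (n : ℕ) : FinCov.Pairing E E (D.M n) where
  f V a b := (D.eps n V a * D.eps n V b : D.C n V)
  add_left V a a' b := by rw [map_add]; exact add_mul (D.eps n V a) (D.eps n V a') (D.eps n V b)
  add_right V a b b' := by rw [map_add]; exact mul_add (D.eps n V a) (D.eps n V b) (D.eps n V b')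
  smul_left V r a b := by
    rw [D.eps_smul]
    exact mul_assoc ((D.p n).app _ (red n V r)) (D.eps n V a) (D.eps n V b)
  smul_right V r a b := by
    rw [D.eps_smul]
    exact mul_left_comm (D.eps n V a) ((D.p n).app _ (red n V r)) (D.eps n V b)
  map {U V} i a b := by
    show LefEt7.resU (D.p n) ((yι 𝓙 n).preimage_mono i.le) (D.eps n U a * D.eps n U b) = _
    rw [LefEt7.resU_mul, ← D.eps_res, ← D.eps_res]
    rfl

/-- The product of functions on the tensor square. -/
def muHom (n : ℕ) : CohB1.tensorMod E E ⟶ D.M n := (D.mulPairing n).hom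

/-- Sections of the tensor square read as functions. -/
abbrev muC (n : ℕ) (V : Z.Opens) (z : Γ(CohB1.tensorMod E E, V)) : D.C n V := (D.muHom n).app V z

theorem muHom_tmul (n : ℕ) (V : Z.Opens) (a b : Γ(E, V)) :
    D.muC n V (SecTwist.tmul E E V a b) = D.eps n V a * D.eps n V b :=
  FinCov.Pairing.hom_tmul _ V a b

theorem muC_smul (n : ℕ) (V : Z.Opens) (r : Γ(Z, V)) (z : Γ(CohB1.tensorMod E E, V)) :
    D.muC n V (r • z) = (D.p n).app _ (red n V r) * D.muC n V z :=
  Scheme.Modules.Hom.app_smul (D.muHom n) r z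

theorem muHom_tMap (n : ℕ) : D.muHom (n + 1) ≫ D.tMap n = D.muHom n :=
  tensor_hom_ext fun V a b => by
    show D.tC n V (D.muC (n + 1) V (SecTwist.tmul E E V a b)) = D.muC n V (SecTwist.tmul E E V a b)
    rw [muHom_tmul, muHom_tmul, map_mul, D.eps_tC, D.eps_tC]

theorem tC_muC (n : ℕ) (V : Z.Opens) (z : Γ(CohB1.tensorMod E E, V)) :
    D.tC n V (D.muC (n + 1) V z) = D.muC n V z :=
  congr(($(D.muHom_tMap n)).app V z)

/-- The triple pairing. -/
def triPairing (n : ℕ) : FinCov.Pairing (CohB1.tensorMod E E) E (ClSub.quotMod (𝓙 ^ (n + 1))) where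
  f V z c := D.tau n V (D.muC n V z * D.eps n V c)
  add_left V z z' c := by
    rw [show D.muC n V (z + z') = D.muC n V z + D.muC n V z' from map_add _ _ _, add_mul]
    exact LefEt7.tau_add _ _ _ _
  add_right V z c c' := by
    rw [map_add, mul_add]
    exact LefEt7.tau_add _ _ _ _
  smul_left V r z c := by
    rw [D.muC_smul, mul_assoc]
    exact LefEt7.tau_mul _ _ _ _
  smul_right V r z c := by
    rw [D.eps_smul, mul_left_comm]
    exact LefEt7.tau_mul _ _ _ _
  map {U V} i z c := by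
    refine (LefEt7.tau_res (D.p n) ((yι 𝓙 n).preimage_mono i.le) _).trans ?_
    rw [LefEt7.resU_mul, ← D.eps_res]
    refine congrArg (fun y => D.tau n V (y * _)) ?_
    have h := (D.muHom n).mapPresheaf.naturality i.op
    exact (congr($h z)).symm

theorem exists_affine_frame (hE : FlatMod.IsFinLocFree E) {V : Z.Opens} {z : Z} (hz : z ∈ V) :
    ∃ (W : Z.Opens) (m : ℕ) (e : Fin m → Γ(E, W)), z ∈ W ∧ W ≤ V ∧ IsAffineOpen W ∧
      FinCov.IsFrame E W e := by
  obtain ⟨U, m, e, hzU, he⟩ := FinCov.exists_frame_nhd hE z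
  obtain ⟨_, ⟨W, hW, rfl⟩, hzW, hle⟩ :=
    Z.isBasis_affineOpens.exists_subset_of_mem_open (show z ∈ U ⊓ V from ⟨hzU, hz⟩) (U ⊓ V).2
  have hWU : W ≤ U := fun w hw => (hle hw).1
  refine ⟨W, m, fun i => mres E hWU (e i), hzW, fun w hw => (hle hw).2, hW, fun T hT => ?_⟩
  have := he T (hT.trans hWU)
  simp only [mres_mres] at this ⊢
  exact this

theorem tY_tau (hE : FlatMod.IsFinLocFree E) (n : ℕ) (V : Z.Opens) (x : D.C (n + 1) V) :
    tY n V (D.tau (n + 1) V x) = D.tau n V (D.tC n V x) := by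
  refine FinCov.eq_of_cover fun y hy => ?_
  obtain ⟨W, m, e, hzW, hWV, hW, he⟩ := exists_affine_frame hE (z := yι 𝓙 n y) hy
  refine ⟨yι 𝓙 n ⁻¹ᵁ W, (yι 𝓙 n).preimage_mono hWV, hzW, ?_⟩
  have h1 : (inc 𝓙 n).appLE _ _ (le_inc n V) ≫
        (Yn 𝓙 n).presheaf.map (homOfLE ((yι 𝓙 n).preimage_mono hWV)).op =
      (Yn 𝓙 (n + 1)).presheaf.map (homOfLE ((yι 𝓙 (n + 1)).preimage_mono hWV)).op ≫
        (inc 𝓙 n).appLE _ _ (le_inc n W) := by
    rw [Scheme.Hom.appLE_map, Scheme.Hom.map_appLE]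
  calc (Yn 𝓙 n).presheaf.map (homOfLE ((yι 𝓙 n).preimage_mono hWV)).op (tY n V (D.tau (n + 1) V x))
      = tY n W ((Yn 𝓙 (n + 1)).presheaf.map (homOfLE ((yι 𝓙 (n + 1)).preimage_mono hWV)).op
          (D.tau (n + 1) V x)) := congr($h1 (D.tau (n + 1) V x))
    _ = tY n W (D.tau (n + 1) W (LefEt7.resU (D.p (n + 1)) ((yι 𝓙 (n + 1)).preimage_mono hWV) x)) :=
        congrArg (tY n W) (LefEt7.tau_res _ _ x)
    _ = D.tau n W (D.tC n W (LefEt7.resU (D.p (n + 1)) ((yι 𝓙 (n + 1)).preimage_mono hWV) x)) :=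
        D.tY_tau_frame hW he n _
    _ = D.tau n W (LefEt7.resU (D.p n) ((yι 𝓙 n).preimage_mono hWV) (D.tC n V x)) :=
        congrArg (D.tau n W) (D.tC_res n hWV x)
    _ = _ := (LefEt7.tau_res _ _ _).symm

set_option maxHeartbeats 2000000 in
/-- The forms determined by morphisms to the structure sheaf. -/
def formsOf (φb : CohB1.tensorMod E E ⟶ Coh.structureModule Z)
    (φt : CohB1.tensorMod (CohB1.tensorMod E E) E ⟶ Coh.structureModule Z)
    (φu : E ⟶ Coh.structureModule Z) : Forms E where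
  b V := LinearMap.mk₂ _ (fun x y => (show Γ(Z, V) from φb.app V (SecTwist.tmul E E V x y)))
    (fun x x' y => by rw [tmul_add_left]; exact map_add _ _ _)
    (fun r x y => by rw [tmul_smul_left]; exact Scheme.Modules.Hom.app_smul φb r _)
    (fun x y y' => by rw [tmul_add_right]; exact map_add _ _ _)
    (fun r x y => by rw [tmul_smul_right]; exact Scheme.Modules.Hom.app_smul φb r _)
  t V := LinearMap.mk₂ _ (fun x y =>
      ({ toFun := fun z => (show Γ(Z, V) from φt.app V (SecTwist.tmul _ E V (SecTwist.tmul E E V x y) z))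
         map_add' := fun z z' => by rw [tmul_add_right]; exact map_add _ _ _
         map_smul' := fun r z => by rw [tmul_smul_right]; exact Scheme.Modules.Hom.app_smul φt r _ } :
        Γ(E, V) →ₗ[Γ(Z, V)] Γ(Z, V)))
    (fun x x' y => LinearMap.ext fun z => by
      show φt.app V _ = φt.app V _ + φt.app V _
      rw [tmul_add_left (M := E), tmul_add_left]; exact map_add _ _ _)
    (fun r x y => LinearMap.ext fun z => by
      show φt.app V _ = r • (show Γ(Coh.structureModule Z, V) from φt.app V _)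
      rw [tmul_smul_left (M := E), tmul_smul_left]; exact Scheme.Modules.Hom.app_smul φt r _)
    (fun x y y' => LinearMap.ext fun z => by
      show φt.app V _ = φt.app V _ + φt.app V _
      rw [tmul_add_right (M := E), tmul_add_left]; exact map_add _ _ _)
    (fun r x y => LinearMap.ext fun z => by
      show φt.app V _ = r • (show Γ(Coh.structureModule Z, V) from φt.app V _)
      rw [tmul_smul_right (M := E), tmul_smul_left]; exact Scheme.Modules.Hom.app_smul φt r _)
  u V :=
    { toFun := fun x => (show Γ(Z, V) from φu.app V x)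
      map_add' := fun x y => map_add _ _ _
      map_smul' := fun r x => Scheme.Modules.Hom.app_smul φu r x }
  b_res {V W} h x y := by
    refine (congr($(φb.mapPresheaf.naturality (homOfLE h).op) _)).symm.trans ?_
    exact congrArg (φb.app V) (SecTwist.map_tmul E E (homOfLE h) x y)
  t_res {V W} h x y z := by
    refine (congr($(φt.mapPresheaf.naturality (homOfLE h).op) _)).symm.trans ?_
    refine congrArg (φt.app V) ((SecTwist.map_tmul _ E (homOfLE h) _ z).trans ?_)
    exact congrArg (fun v => SecTwist.tmul _ E V v _) (SecTwist.map_tmul E E (homOfLE h) x y)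
  u_res {V W} h x := (congr($(φu.mapPresheaf.naturality (homOfLE h).op) x)).symm

set_option maxHeartbeats 2000000 in
/-- The algebraised forms with their reductions. -/
theorem exists_forms (hE : FlatMod.IsFinLocFree E)
    (hL : ∀ M : Z.Modules, FlatMod.IsFinLocFree M → Lef.HomToFormalBijective 𝓙 M) :
    ∃ F : Forms E, ∀ (n : ℕ) (V : Z.Opens),
      (∀ x y, red n V (F.b V x y) = D.tau n V (D.eps n V x * D.eps n V y)) ∧
      (∀ x y z, red n V (F.t V x y z) = D.tau n V (D.eps n V x * D.eps n V y * D.eps n V z)) ∧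
      (∀ x, red n V (F.u V x) = D.tau n V (D.eps n V x)) := by
  have hEE := GrothLib.ModelK.isFinLocFree_tensorMod hE hE
  obtain ⟨φb, hb⟩ := (hL _ hEE).2 (fun n => D.muHom n ≫ D.tauHom n) fun n => by
    refine Scheme.Modules.hom_ext _ _ fun V => ?_
    ext z
    show (Lef.quotMap (Lef.pow_succ_le 𝓙 n)).app V (D.tau (n + 1) V (D.muC (n + 1) V z)) = D.tau n V (D.muC n V z)
    rw [quotMap_app 𝓙 n V _ (le_inc n V)]
    show tY n V _ = _
    rw [D.tY_tau hE, D.tC_muC]
  obtain ⟨φt, ht⟩ := (hL _ (GrothLib.ModelK.isFinLocFree_tensorMod hEE hE)).2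
    (fun n => (D.triPairing n).hom) fun n => by
      refine tensor_hom_ext fun V z c => ?_
      show (Lef.quotMap (Lef.pow_succ_le 𝓙 n)).app V ((D.triPairing (n + 1)).hom.app V _) = _
      rw [show (D.triPairing (n + 1)).hom.app V (SecTwist.tmul _ E V z c) = _ from
          FinCov.Pairing.hom_tmul (D.triPairing (n + 1)) V z c,
        show (D.triPairing n).hom.app V (SecTwist.tmul _ E V z c) = _ from
          FinCov.Pairing.hom_tmul (D.triPairing n) V z c]
      show (Lef.quotMap (Lef.pow_succ_le 𝓙 n)).app V (D.tau (n + 1) V _) = D.tau n V _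
      rw [quotMap_app 𝓙 n V _ (le_inc n V)]
      show tY n V _ = _
      rw [D.tY_tau hE, map_mul, D.tC_muC, D.eps_tC]
  obtain ⟨φu, hu⟩ := (hL _ hE).2 (fun n => D.epsHom n ≫ D.tauHom n) fun n => by
    refine Scheme.Modules.hom_ext _ _ fun V => ?_
    ext z
    show (Lef.quotMap (Lef.pow_succ_le 𝓙 n)).app V (D.tau (n + 1) V (D.eps (n + 1) V z)) = D.tau n V (D.eps n V z)
    rw [quotMap_app 𝓙 n V _ (le_inc n V)]
    show tY n V _ = _
    rw [D.tY_tau hE, D.eps_tC]
  refine ⟨formsOf φb φt φu, fun n V => ⟨fun x y => ?_, fun x y z => ?_, fun x => ?_⟩⟩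
  · refine (congr(($(hb n)).app V (SecTwist.tmul E E V x y))).trans ?_
    show D.tau n V (D.muC n V _) = _
    rw [muHom_tmul]
  · refine (congr(($(ht n)).app V (SecTwist.tmul _ E V (SecTwist.tmul E E V x y) z))).trans ?_
    refine (FinCov.Pairing.hom_tmul (D.triPairing n) V _ z).trans ?_
    show D.tau n V (D.muC n V _ * _) = _
    rw [muHom_tmul]
  · exact congr(($(hu n)).app V x)

end FormalAlg

end GrothLib.EtAlgz21
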