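import Groth.Agent.EtAlgz21.Mult
import Groth.Agent.Lib.LefEt7.Tau
import Groth.Agent.Lib.LefEt7.Sec
import Groth.Prelude.Def_Lef

/-!
# Systems of finite étale covers of the thickenings with a bundle of their functions
-/

set_option autoImplicit false
set_option backward.isDefEq.respectTransparency false
set_option linter.style.haveILetI false

universe u

open CategoryTheory CategoryTheory.Limits AlgebraicGeometry TopologicalSpace Opposite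

noncomputable section

namespace GrothLib.EtAlgz21

variable {Z : Scheme.{u}}

/-- The thickenings. -/
abbrev Yn (𝓙 : Z.IdealSheafData) (n : ℕ) : Scheme.{u} := (𝓙 ^ (n + 1)).subscheme

/-- Their inclusions. -/
abbrev yι (𝓙 : Z.IdealSheafData) (n : ℕ) : Yn 𝓙 n ⟶ Z := (𝓙 ^ (n + 1)).subschemeι

/-- The transition maps. -/
abbrev inc (𝓙 : Z.IdealSheafData) (n : ℕ) : Yn 𝓙 n ⟶ Yn 𝓙 (n + 1) :=
  Scheme.IdealSheafData.inclusion (Lef.pow_succ_le 𝓙 n)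

theorem inc_yι (𝓙 : Z.IdealSheafData) (n : ℕ) : inc 𝓙 n ≫ yι 𝓙 (n + 1) = yι 𝓙 n :=
  Scheme.IdealSheafData.inclusion_subschemeι _

/-- Covers of the thickenings together with a finite locally free module giving their functions. -/
structure FormalAlg (𝓙 : Z.IdealSheafData) (E : Z.Modules) where
  R : ℕ → Scheme.{u}
  p : ∀ n, R n ⟶ Yn 𝓙 n
  finite : ∀ n, IsFinite (p n)
  etale : ∀ n, Etale (p n)
  t : ∀ n, R n ⟶ R (n + 1)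
  w : ∀ n, t n ≫ p (n + 1) = p n ≫ inc 𝓙 n
  eps : ∀ n (V : Z.Opens), Γ(E, V) →+ Γ(R n, p n ⁻¹ᵁ (yι 𝓙 n ⁻¹ᵁ V))
  eps_smul : ∀ n (V : Z.Opens) (r : Γ(Z, V)) (x : Γ(E, V)),
    eps n V (r • x) = (p n).app _ ((yι 𝓙 n).app V r) * eps n V x
  eps_res : ∀ n {V W : Z.Opens} (h : V ≤ W) (x : Γ(E, W)),
    eps n V (mres E h x) =
      LefEt7.resU (p n) ((yι 𝓙 n).preimage_mono h) (eps n W x)
  eps_compat : ∀ n (V : Z.Opens) (x : Γ(E, V))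
    (e : p n ⁻¹ᵁ (yι 𝓙 n ⁻¹ᵁ V) ≤ t n ⁻¹ᵁ (p (n + 1) ⁻¹ᵁ (yι 𝓙 (n + 1) ⁻¹ᵁ V))),
    (t n).appLE _ _ e (eps (n + 1) V x) = eps n V x
  basis : ∀ n (W : Z.Opens) (_ : IsAffineOpen W) (m : ℕ) (e : Fin m → Γ(E, W)),
    FinCov.IsFrame E W e → Function.Bijective fun c : Fin m → Γ(Yn 𝓙 n, yι 𝓙 n ⁻¹ᵁ W) =>
      ∑ i, (p n).app _ (c i) * eps n W (e i)

namespace FormalAlg

variable {𝓙 : Z.IdealSheafData} {E : Z.Modules} (D : FormalAlg 𝓙 E)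

instance (n : ℕ) : IsFinite (D.p n) := D.finite n
instance (n : ℕ) : Etale (D.p n) := D.etale n

/-- The ring of functions over an open. -/
abbrev C (n : ℕ) (V : Z.Opens) : Type u := Γ(D.R n, D.p n ⁻¹ᵁ (yι 𝓙 n ⁻¹ᵁ V))

/-- Reduction of functions. -/
abbrev red (n : ℕ) (V : Z.Opens) (r : Γ(Z, V)) : Γ(Yn 𝓙 n, yι 𝓙 n ⁻¹ᵁ V) := (yι 𝓙 n).app V r

theorem le_t (n : ℕ) (V : Z.Opens) :
    D.p n ⁻¹ᵁ (yι 𝓙 n ⁻¹ᵁ V) ≤ D.t n ⁻¹ᵁ (D.p (n + 1) ⁻¹ᵁ (yι 𝓙 (n + 1) ⁻¹ᵁ V)) := by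
  rw [← Scheme.Hom.comp_preimage, ← Scheme.Hom.comp_preimage, ← Scheme.Hom.comp_preimage,
    D.w, Category.assoc, inc_yι]

theorem le_inc (n : ℕ) (V : Z.Opens) : yι 𝓙 n ⁻¹ᵁ V ≤ inc 𝓙 n ⁻¹ᵁ (yι 𝓙 (n + 1) ⁻¹ᵁ V) := by
  rw [← Scheme.Hom.comp_preimage, inc_yι]

/-- Transition of functions. -/
abbrev tC (n : ℕ) (V : Z.Opens) : D.C (n + 1) V →+* D.C n V :=
  ((D.t n).appLE _ _ (D.le_t n V)).hom

/-- Transition of functions of the base. -/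
abbrev tY (n : ℕ) (V : Z.Opens) : Γ(Yn 𝓙 (n + 1), yι 𝓙 (n + 1) ⁻¹ᵁ V) →+* Γ(Yn 𝓙 n, yι 𝓙 n ⁻¹ᵁ V) :=
  ((inc 𝓙 n).appLE _ _ (le_inc n V)).hom

theorem tC_app (n : ℕ) (V : Z.Opens) (c : Γ(Yn 𝓙 (n + 1), yι 𝓙 (n + 1) ⁻¹ᵁ V)) :
    D.tC n V ((D.p (n + 1)).app _ c) = (D.p n).app _ (tY n V c) := by
  have key : ∀ {f g : D.R n ⟶ Yn 𝓙 (n + 1)} (_ : f = g) (U : (Yn 𝓙 (n + 1)).Opens) (P : (D.R n).Opens)
      (h : P ≤ f ⁻¹ᵁ U) (h' : P ≤ g ⁻¹ᵁ U), f.appLE U P h = g.appLE U P h' := by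
    intro f g e U P h h'; subst e; rfl
  have h1 := (D.t n).appLE_comp_appLE (D.p (n + 1)) (yι 𝓙 (n + 1) ⁻¹ᵁ V)
    (D.p (n + 1) ⁻¹ᵁ (yι 𝓙 (n + 1) ⁻¹ᵁ V)) (D.p n ⁻¹ᵁ (yι 𝓙 n ⁻¹ᵁ V)) le_rfl (D.le_t n V)
  have h2 := (D.p n).appLE_comp_appLE (inc 𝓙 n) (yι 𝓙 (n + 1) ⁻¹ᵁ V) (yι 𝓙 n ⁻¹ᵁ V)
    (D.p n ⁻¹ᵁ (yι 𝓙 n ⁻¹ᵁ V)) (le_inc n V) le_rfl
  have h3 := key (D.w n) (yι 𝓙 (n + 1) ⁻¹ᵁ V) (D.p n ⁻¹ᵁ (yι 𝓙 n ⁻¹ᵁ V))
    (le_rfl.trans (by rw [Scheme.Hom.comp_preimage]; exact D.le_t n V))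
    (by rw [Scheme.Hom.comp_preimage]; exact (D.p n).preimage_mono (le_inc n V))
  rw [Scheme.Hom.appLE_eq_app] at h1 h2
  exact congr($(h1.trans (h3.trans h2.symm)) c)

theorem tY_red (n : ℕ) (V : Z.Opens) (r : Γ(Z, V)) : tY n V (red (𝓙 := 𝓙) (n + 1) V r) = red n V r := by
  have h := (inc 𝓙 n).appLE_comp_appLE (yι 𝓙 (n + 1)) V (yι 𝓙 (n + 1) ⁻¹ᵁ V) (yι 𝓙 n ⁻¹ᵁ V)
    le_rfl (le_inc n V)
  rw [Scheme.Hom.appLE_eq_app] at h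
  have h' : (inc 𝓙 n ≫ yι 𝓙 (n + 1)).appLE V (yι 𝓙 n ⁻¹ᵁ V) (by rw [inc_yι]) =
      (yι 𝓙 n).app V := by
    rw [Scheme.Hom.app_eq_appLE]
    congr 1
    exact inc_yι 𝓙 n
  exact congr($(h.trans h') r)

theorem eps_tC (n : ℕ) (V : Z.Opens) (x : Γ(E, V)) : D.tC n V (D.eps (n + 1) V x) = D.eps n V x :=
  D.eps_compat n V x _

/-- The trace. -/
abbrev tau (n : ℕ) (V : Z.Opens) (x : D.C n V) : Γ(Yn 𝓙 n, yι 𝓙 n ⁻¹ᵁ V) :=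
  LefEt7.tau (D.p n) (yι 𝓙 n ⁻¹ᵁ V) x

section frame

variable {W : Z.Opens} (hW : IsAffineOpen W) {m : ℕ} {e : Fin m → Γ(E, W)} (he : FinCov.IsFrame E W e)

include hW in
theorem isAffineOpen_preimage (n : ℕ) : IsAffineOpen (yι 𝓙 n ⁻¹ᵁ W) := hW.preimage _

/-- The basis of functions over a frame. -/
def basisC (n : ℕ) :
    letI := ((D.p n).app (yι 𝓙 n ⁻¹ᵁ W)).hom.toAlgebra
    Module.Basis (Fin m) Γ(Yn 𝓙 n, yι 𝓙 n ⁻¹ᵁ W) (D.C n W) :=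
  letI := ((D.p n).app (yι 𝓙 n ⁻¹ᵁ W)).hom.toAlgebra
  let L : (Fin m → Γ(Yn 𝓙 n, yι 𝓙 n ⁻¹ᵁ W)) →ₗ[Γ(Yn 𝓙 n, yι 𝓙 n ⁻¹ᵁ W)] D.C n W :=
    { toFun := fun c => ∑ i, (D.p n).app _ (c i) * D.eps n W (e i)
      map_add' := fun c d => by simp [add_mul, Finset.sum_add_distrib]
      map_smul' := fun r c => by
        rw [Finset.smul_sum]
        refine Finset.sum_congr rfl fun i _ => ?_
        show (D.p n).app _ (r * c i) * _ = (D.p n).app _ r * ((D.p n).app _ (c i) * _)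
        rw [map_mul, mul_assoc] }
  Module.Basis.ofEquivFun (LinearEquiv.ofBijective L (D.basis n W hW m e he)).symm

theorem basisC_apply (n : ℕ) (i : Fin m) : D.basisC hW he n i = D.eps n W (e i) := by
  classical
  letI := ((D.p n).app (yι 𝓙 n ⁻¹ᵁ W)).hom.toAlgebra
  rw [basisC, Module.Basis.coe_ofEquivFun]
  simp [Pi.single_apply]

include hW he in
theorem good (n : ℕ) : LefEt7.Good (D.p n) (yι 𝓙 n ⁻¹ᵁ W) :=
  letI := ((D.p n).app (yι 𝓙 n ⁻¹ᵁ W)).hom.toAlgebra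
  ⟨isAffineOpen_preimage hW n,
    @Module.Free.of_basis Γ(Yn 𝓙 n, yι 𝓙 n ⁻¹ᵁ W) (D.C n W) _ _ _ _ (D.basisC hW he n),
    @Module.Finite.of_basis Γ(Yn 𝓙 n, yι 𝓙 n ⁻¹ᵁ W) (D.C n W) _ _ _ _ _ (D.basisC hW he n)⟩

include hW he in
theorem tY_tau_frame (n : ℕ) (x : D.C (n + 1) W) : tY n W (D.tau (n + 1) W x) = D.tau n W (D.tC n W x) := by
  classical
  letI := ((D.p n).app (yι 𝓙 n ⁻¹ᵁ W)).hom.toAlgebra
  letI := ((D.p (n + 1)).app (yι 𝓙 (n + 1) ⁻¹ᵁ W)).hom.toAlgebra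
  let b := D.basisC hW he n
  let b' := D.basisC hW he (n + 1)
  rw [tau, tau, LefEt7.tau_eq_trace _ (D.good hW he (n + 1)), LefEt7.tau_eq_trace _ (D.good hW he n),
    Algebra.trace_eq_matrix_trace b, Algebra.trace_eq_matrix_trace b', Matrix.trace, Matrix.trace, map_sum]
  refine Finset.sum_congr rfl fun i _ => ?_
  rw [Matrix.diag, Matrix.diag, Algebra.leftMulMatrix_eq_repr_mul, Algebra.leftMulMatrix_eq_repr_mul]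
  have hb : ∀ j, b j = D.eps n W (e j) := fun j => D.basisC_apply hW he n j
  have hb' : ∀ j, b' j = D.eps (n + 1) W (e j) := fun j => D.basisC_apply hW he (n + 1) j
  have h1 : D.tC n W (x * b' i) = D.tC n W x * b i := by
    rw [map_mul, hb, hb', D.eps_tC]
  have h2 : D.tC n W (x * b' i) = ∑ j, tY n W (b'.repr (x * b' i) j) • b j := by
    conv_lhs => rw [← b'.sum_repr (x * b' i)]
    rw [map_sum]
    refine Finset.sum_congr rfl fun j _ => ?_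
    rw [Algebra.smul_def, Algebra.smul_def, map_mul, hb j, hb' j, D.eps_tC]
    exact congrArg (fun y : D.C n W => y * D.eps n W (e j)) (D.tC_app n W _)
  show tY n W (b'.repr (x * b' i) i) = b.repr (D.tC n W x * b i) i
  rw [← h1, h2, map_sum, Finset.sum_apply']
  simp [Module.Basis.repr_self, Finsupp.single_apply]

end frame

end FormalAlg

end GrothLib.EtAlgz21
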