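import Groth.Agent.Lib.FinCov.Frame
import Mathlib.LinearAlgebra.Matrix.NonsingularInverse

/-!
# The multiplication determined by a perfect pairing and a trilinear form
-/

set_option autoImplicit false
set_option backward.isDefEq.respectTransparency false

universe u

open CategoryTheory AlgebraicGeometry TopologicalSpace Opposite

noncomputable section

namespace GrothLib.EtAlgz21

variable {Z : Scheme.{u}}

/-- Restriction of sections of a module. -/
abbrev mres (E : Z.Modules) {V W : Z.Opens} (h : V ≤ W) (x : Γ(E, W)) : Γ(E, V) :=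
  E.presheaf.map (homOfLE h).op x

/-- Restriction of functions. -/
abbrev ores {V W : Z.Opens} (h : V ≤ W) (r : Γ(Z, W)) : Γ(Z, V) := Z.presheaf.map (homOfLE h).op r

theorem mres_mres (E : Z.Modules) {U V W : Z.Opens} (h : V ≤ W) (h' : U ≤ V) (x : Γ(E, W)) :
    mres E h' (mres E h x) = mres E (h'.trans h) x := by
  rw [mres, mres, ← ConcreteCategory.comp_apply, ← Functor.map_comp]; rfl

theorem mres_self (E : Z.Modules) {W : Z.Opens} (h : W ≤ W) (x : Γ(E, W)) : mres E h x = x := by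
  rw [mres, Subsingleton.elim (homOfLE h).op (𝟙 _), CategoryTheory.Functor.map_id]; rfl

theorem ores_ores {U V W : Z.Opens} (h : V ≤ W) (h' : U ≤ V) (x : Γ(Z, W)) :
    ores h' (ores h x) = ores (h'.trans h) x := by
  rw [ores, ores, ← ConcreteCategory.comp_apply, ← Functor.map_comp]; rfl

theorem ores_self {W : Z.Opens} (h : W ≤ W) (x : Γ(Z, W)) : ores h x = x := by
  rw [ores, Subsingleton.elim (homOfLE h).op (𝟙 _), CategoryTheory.Functor.map_id]; rfl

theorem mres_smul (E : Z.Modules) {V W : Z.Opens} (h : V ≤ W) (r : Γ(Z, W)) (x : Γ(E, W)) :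
    mres E h (r • x) = ores h r • mres E h x :=
  Scheme.Modules.map_smul E _ r x

/-- A pairing, a trilinear form and a linear form, natural in the open. -/
structure Forms (E : Z.Modules) where
  b : ∀ V : Z.Opens, Γ(E, V) →ₗ[Γ(Z, V)] Γ(E, V) →ₗ[Γ(Z, V)] Γ(Z, V)
  t : ∀ V : Z.Opens, Γ(E, V) →ₗ[Γ(Z, V)] Γ(E, V) →ₗ[Γ(Z, V)] Γ(E, V) →ₗ[Γ(Z, V)] Γ(Z, V)
  u : ∀ V : Z.Opens, Γ(E, V) →ₗ[Γ(Z, V)] Γ(Z, V)
  b_res : ∀ {V W : Z.Opens} (h : V ≤ W) (x y : Γ(E, W)),
    ores h (b W x y) = b V (mres E h x) (mres E h y)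
  t_res : ∀ {V W : Z.Opens} (h : V ≤ W) (x y z : Γ(E, W)),
    ores h (t W x y z) = t V (mres E h x) (mres E h y) (mres E h z)
  u_res : ∀ {V W : Z.Opens} (h : V ≤ W) (x : Γ(E, W)), ores h (u W x) = u V (mres E h x)

variable {E : Z.Modules} (F : Forms E)

/-- An open on whose subopens the pairing is perfect. -/
def Forms.Perfect (W : Z.Opens) : Prop :=
  ∀ (V : Z.Opens) (h : V ≤ W), Function.Bijective (F.b V) ∧
    Submodule.span Γ(Z, V) (Set.range (mres E h)) = ⊤

theorem Forms.ext_res {W V : Z.Opens} (hW : F.Perfect W) (h : V ≤ W) {φ ψ : Γ(E, V) →ₗ[Γ(Z, V)] Γ(Z, V)}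
    (e : ∀ d : Γ(E, W), φ (mres E h d) = ψ (mres E h d)) : φ = ψ :=
  LinearMap.ext_on_range (hW V h).2 e

theorem Forms.perfect_of_frame {n : ℕ} {W : Z.Opens} {e : Fin n → Γ(E, W)} (he : FinCov.IsFrame E W e)
    (hdet : IsUnit (Matrix.det (Matrix.of fun i j => F.b W (e i) (e j)))) : F.Perfect W := by
  intro V hV
  let β := he.basis V hV
  let G : Matrix (Fin n) (Fin n) Γ(Z, V) := Matrix.of fun i j => F.b V (β i) (β j)
  have hG : G = (Z.presheaf.map (homOfLE hV).op).hom.mapMatrix (Matrix.of fun i j => F.b W (e i) (e j)) := by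
    refine Matrix.ext fun i j => ?_
    show F.b V (β i) (β j) = _
    rw [show β i = mres E hV (e i) from he.basis_apply V hV i,
      show β j = mres E hV (e j) from he.basis_apply V hV j, ← F.b_res hV]
    rfl
  have hu : IsUnit G.det := by
    rw [hG, ← RingHom.map_det]
    exact hdet.map _
  have hb : ∀ (x : Γ(E, V)) (j : Fin n), F.b V x (β j) = Matrix.vecMul (⇑(β.repr x)) G j := fun x j => by
    refine (congrArg (fun y => F.b V y (β j)) (β.sum_repr x).symm).trans ?_
    rw [map_sum, LinearMap.sum_apply]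
    exact Finset.sum_congr rfl fun i _ => by rw [map_smul, LinearMap.smul_apply, smul_eq_mul]; rfl
  refine ⟨⟨?_, ?_⟩, top_unique (β.span_eq.symm.le.trans (Submodule.span_mono (by
    rintro _ ⟨i, rfl⟩
    exact ⟨e i, (he.basis_apply V hV i).symm⟩)))⟩
  · intro x y hxy
    refine β.repr.injective (DFunLike.coe_injective ?_)
    have h : Matrix.vecMul (⇑(β.repr x)) G = Matrix.vecMul (⇑(β.repr y)) G :=
      funext fun j => by rw [← hb, ← hb, hxy]
    have := congrArg (fun v => Matrix.vecMul v G⁻¹) h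
    simpa [Matrix.vecMul_vecMul, Matrix.mul_nonsing_inv _ hu] using this
  · intro φ
    let v : Fin n → Γ(Z, V) := fun j => φ (β j)
    refine ⟨β.equivFun.symm (Matrix.vecMul v G⁻¹), β.ext fun j => ?_⟩
    rw [hb]
    have : ⇑(β.repr (β.equivFun.symm (Matrix.vecMul v G⁻¹))) = Matrix.vecMul v G⁻¹ :=
      β.equivFun.apply_symm_apply _
    rw [this, Matrix.vecMul_vecMul, Matrix.nonsing_inv_mul _ hu, Matrix.vecMul_one]

variable (hp : ∀ z : Z, ∃ W : Z.Opens, z ∈ W ∧ F.Perfect W)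
include hp

theorem Forms.ext {V : Z.Opens} {x y : Γ(E, V)}
    (h : ∀ (W : Z.Opens) (k : W ≤ V) (c : Γ(E, W)), F.b W (mres E k x) c = F.b W (mres E k y) c) : x = y := by
  refine TopCat.Sheaf.eq_of_locally_eq' ⟨E.presheaf, E.isSheaf⟩
    (fun z : V => (hp z.1).choose ⊓ V) V (fun z => homOfLE inf_le_right)
    (fun z hz => Opens.mem_iSup.2 ⟨⟨z, hz⟩, (hp z).choose_spec.1, hz⟩) _ _ fun z => ?_
  exact ((hp z.1).choose_spec.2 _ inf_le_left).1.1 (LinearMap.ext fun c => h _ _ c)

/-- A natural family of functionals is represented by a unique section. -/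
theorem Forms.existsUnique_rep (V : Z.Opens)
    (φ : ∀ W : Z.Opens, W ≤ V → (Γ(E, W) →ₗ[Γ(Z, W)] Γ(Z, W)))
    (hφ : ∀ {W W' : Z.Opens} (h : W ≤ V) (h' : W' ≤ W) (c : Γ(E, W)),
      ores h' (φ W h c) = φ W' (h'.trans h) (mres E h' c)) :
    ∃! x : Γ(E, V), ∀ (W : Z.Opens) (k : W ≤ V) (c : Γ(E, W)), F.b W (mres E k x) c = φ W k c := by
  classical
  have hp' := hp
  choose P hP hPp using hp
  let U : V → Z.Opens := fun z => P z.1 ⊓ V
  choose a ha using fun z : V => (hPp z.1 (U z) inf_le_left).1.2 (φ (U z) inf_le_right)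
  have key : ∀ (z : V) (W : Z.Opens) (k : W ≤ U z) (c : Γ(E, W)),
      F.b W (mres E k (a z)) c = φ W (k.trans inf_le_right) c := fun z W k c =>
    LinearMap.congr_fun (F.ext_res (hPp z.1) (k.trans inf_le_left) fun d => by
      rw [← mres_mres E (inf_le_left : U z ≤ P z.1) k, ← F.b_res k, ha z, hφ]) c
  obtain ⟨x, hx, -⟩ := TopCat.Sheaf.existsUnique_gluing' ⟨E.presheaf, E.isSheaf⟩ U V
    (fun z => homOfLE inf_le_right) (fun z hz => Opens.mem_iSup.2 ⟨⟨z, hz⟩, hP z, hz⟩) a (by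
      intro z w
      show mres E (inf_le_left : U z ⊓ U w ≤ U z) (a z) = mres E (inf_le_right : U z ⊓ U w ≤ U w) (a w)
      refine F.ext hp' fun W k c => ?_
      rw [mres_mres, mres_mres, key, key])
  have hx' : ∀ z, mres E (inf_le_right : U z ≤ V) x = a z := hx
  have hxr : ∀ (W : Z.Opens) (k : W ≤ V) (c : Γ(E, W)), F.b W (mres E k x) c = φ W k c := fun W k c => by
    refine Z.sheaf.eq_of_locally_eq' (fun z : W => U ⟨z.1, k z.2⟩ ⊓ W) W (fun z => homOfLE inf_le_right)
      (fun z hz => Opens.mem_iSup.2 ⟨⟨z, hz⟩, ⟨hP z, k hz⟩, hz⟩) _ _ fun z => ?_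
    show ores (inf_le_right : U ⟨z.1, k z.2⟩ ⊓ W ≤ W) _ = ores (inf_le_right : U ⟨z.1, k z.2⟩ ⊓ W ≤ W) _
    rw [F.b_res, hφ, mres_mres]
    have := key ⟨z.1, k z.2⟩ (U ⟨z.1, k z.2⟩ ⊓ W) inf_le_left (mres E inf_le_right c)
    rwa [← hx', mres_mres] at this
  exact ⟨x, hxr, fun y hy => F.ext hp' fun W k c => by rw [hy, hxr]⟩

/-- The product of two sections. -/
def Forms.mul (V : Z.Opens) (a b : Γ(E, V)) : Γ(E, V) :=
  (F.existsUnique_rep hp V (fun W k => F.t W (mres E k a) (mres E k b)) fun h h' c => by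
    rw [F.t_res h', mres_mres, mres_mres]).choose

theorem Forms.mul_spec (V : Z.Opens) (a b : Γ(E, V)) (W : Z.Opens) (k : W ≤ V) (c : Γ(E, W)) :
    F.b W (mres E k (F.mul hp V a b)) c = F.t W (mres E k a) (mres E k b) c :=
  (F.existsUnique_rep hp V (fun W k => F.t W (mres E k a) (mres E k b)) fun h h' c => by
    rw [F.t_res h', mres_mres, mres_mres]).choose_spec.1 W k c

/-- The unit section. -/
def Forms.one (V : Z.Opens) : Γ(E, V) :=
  (F.existsUnique_rep hp V (fun W _ => F.u W) fun _ h' c => F.u_res h' c).choose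

theorem Forms.one_spec (V W : Z.Opens) (k : W ≤ V) (c : Γ(E, W)) :
    F.b W (mres E k (F.one hp V)) c = F.u W c :=
  (F.existsUnique_rep hp V (fun W _ => F.u W) fun _ h' c => F.u_res h' c).choose_spec.1 W k c

theorem Forms.mres_mul {V V' : Z.Opens} (h : V' ≤ V) (a b : Γ(E, V)) :
    mres E h (F.mul hp V a b) = F.mul hp V' (mres E h a) (mres E h b) :=
  F.ext hp fun W k c => by rw [mres_mres, F.mul_spec, F.mul_spec, mres_mres, mres_mres]

theorem Forms.mres_one {V V' : Z.Opens} (h : V' ≤ V) : mres E h (F.one hp V) = F.one hp V' :=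
  F.ext hp fun W k c => by rw [mres_mres, F.one_spec, F.one_spec]

/-- The product as a bilinear map. -/
def Forms.mulₗ (V : Z.Opens) : Γ(E, V) →ₗ[Γ(Z, V)] Γ(E, V) →ₗ[Γ(Z, V)] Γ(E, V) :=
  LinearMap.mk₂ _ (F.mul hp V)
    (fun a a' b => F.ext hp fun W k c => by
      rw [F.mul_spec]; simp only [mres, map_add, LinearMap.add_apply]
      rw [← F.mul_spec hp V a b W k c, ← F.mul_spec hp V a' b W k c])
    (fun r a b => F.ext hp fun W k c => by
      rw [F.mul_spec, mres_smul, mres_smul]; simp only [map_smul, LinearMap.smul_apply]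
      rw [F.mul_spec])
    (fun a b b' => F.ext hp fun W k c => by
      rw [F.mul_spec]; simp only [mres, map_add, LinearMap.add_apply]
      rw [← F.mul_spec hp V a b W k c, ← F.mul_spec hp V a b' W k c])
    (fun r a b => F.ext hp fun W k c => by
      rw [F.mul_spec, mres_smul, mres_smul]; simp only [map_smul, LinearMap.smul_apply]
      rw [F.mul_spec])

theorem Forms.mulₗ_apply (V : Z.Opens) (a b : Γ(E, V)) : F.mulₗ hp V a b = F.mul hp V a b := rfl

end GrothLib.EtAlgz21
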